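import Groth.Agent.CotT.Exact
import Mathlib.RingTheory.Regular.RegularSequence
import Mathlib.Tactic.LinearCombination

/-! Relations among a regular sequence are trivial; polynomial algebras. -/

open TensorProduct

noncomputable section

namespace Groth.Agent.CotT

open _root_.CotT

universe u v w t m

section Koszul

variable {R : Type u} [CommRing R]

/-- The trivial relations among a family. -/
def trivOf {κ : Type w} (b : κ → R) : Submodule R (κ →₀ R) :=
  Submodule.span R {y | ∃ a a' : κ →₀ R,
    y = Finsupp.linearCombination R b a • a' - Finsupp.linearCombination R b a' • a}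

theorem trivOf_map {κ κ' : Type*} (b : κ' → R) (g : κ → κ') {f : κ →₀ R} (hf : f ∈ trivOf (b ∘ g)) :
    Finsupp.mapDomain g f ∈ trivOf b := by
  have h : trivOf (b ∘ g) ≤ (trivOf b).comap (Finsupp.lmapDomain R R g) := by
    refine Submodule.span_le.2 ?_
    rintro _ ⟨a, a', rfl⟩
    refine Submodule.subset_span ⟨Finsupp.mapDomain g a, Finsupp.mapDomain g a', ?_⟩
    rw [map_sub, map_smul, map_smul, Finsupp.lmapDomain_apply, Finsupp.lmapDomain_apply,
      Finsupp.linearCombination_mapDomain, Finsupp.linearCombination_mapDomain]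
  exact h hf

/-- Each term is a nonzerodivisor modulo the previous ones. -/
def IsWReg {r : ℕ} (b : Fin r → R) : Prop :=
  ∀ i x, b i * x ∈ Ideal.span (b '' Set.Iio i) → x ∈ Ideal.span (b '' Set.Iio i)

theorem IsWReg.init {r : ℕ} {b : Fin (r + 1) → R} (h : IsWReg b) : IsWReg (b ∘ Fin.castSucc) := by
  have e : ∀ i : Fin r, b '' Set.Iio i.castSucc = (b ∘ Fin.castSucc) '' Set.Iio i := fun i => by
    rw [Set.image_comp, Fin.image_castSucc_Iio]
  intro i x hx
  rw [← e] at hx ⊢
  exact h i.castSucc x hx

theorem relations_trivial : ∀ {r : ℕ} (b : Fin r → R), IsWReg b →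
    ∀ f : Fin r →₀ R, Finsupp.linearCombination R b f = 0 → f ∈ trivOf b
  | 0, b, _, f, _ => by rw [Subsingleton.elim f 0]; exact Submodule.zero_mem _
  | r + 1, b, h, f, hf => by
    classical
    rw [Finsupp.linearCombination_apply, Finsupp.sum_fintype _ _ (fun i => zero_smul R (b i)),
      Fin.sum_univ_castSucc] at hf
    simp only [smul_eq_mul] at hf
    set x := f (Fin.last r)
    have hx : x ∈ Ideal.span (Set.range (b ∘ Fin.castSucc)) := by
      have hI : b '' Set.Iio (Fin.last r) = Set.range (b ∘ Fin.castSucc) := by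
        rw [Set.range_comp, Fin.range_castSucc]
        congr 1
      rw [← hI]
      refine h _ _ ?_
      rw [hI, show b (Fin.last r) * x = -∑ i : Fin r, f i.castSucc * b i.castSucc by linear_combination hf]
      exact neg_mem (Submodule.sum_mem _ fun i _ => Ideal.mul_mem_left _ _ (Ideal.subset_span ⟨i, rfl⟩))
    obtain ⟨d, hd⟩ := Submodule.mem_span_range_iff_exists_fun R |>.1 hx
    simp only [smul_eq_mul, Function.comp_apply] at hd
    set t : Fin (r + 1) →₀ R := ∑ i : Fin r, d i •
      (Finsupp.linearCombination R b (Finsupp.single i.castSucc 1) • Finsupp.single (Fin.last r) 1 -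
        Finsupp.linearCombination R b (Finsupp.single (Fin.last r) 1) • Finsupp.single i.castSucc 1)
    have ht : t ∈ trivOf b :=
      Submodule.sum_mem _ fun i _ => Submodule.smul_mem _ _ (Submodule.subset_span ⟨_, _, rfl⟩)
    have hlast : (f - t) (Fin.last r) = 0 := by
      simp only [t, Finsupp.sub_apply, Finsupp.coe_finsetSum, Finset.sum_apply, Finsupp.smul_apply,
        Finsupp.linearCombination_single, Finsupp.single_eq_same, one_smul, smul_eq_mul, mul_one, one_mul,
        Finsupp.single_eq_of_ne (Fin.castSucc_lt_last _).ne', mul_zero, sub_zero]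
      rw [hd, sub_self]
    set g : Fin r →₀ R := Finsupp.equivFunOnFinite.symm fun i => (f - t) i.castSucc
    have hg : f - t = Finsupp.mapDomain Fin.castSucc g := by
      ext i
      cases i using Fin.lastCases with
      | last => rw [hlast, Finsupp.mapDomain_notin_range _ _ (by simp)]
      | cast i => rw [Finsupp.mapDomain_apply (Fin.castSucc_injective r)]; rfl
    have hlt : Finsupp.linearCombination R b t = 0 := by
      simp only [t, map_sum, map_smul, map_sub, Finsupp.linearCombination_single, one_smul, smul_eq_mul]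
      exact Finset.sum_eq_zero fun i _ => by ring
    have hlg : Finsupp.linearCombination R (b ∘ Fin.castSucc) g = 0 := by
      rw [← Finsupp.linearCombination_mapDomain, ← hg, map_sub, hlt, sub_zero, Finsupp.linearCombination_apply,
        Finsupp.sum_fintype _ _ (fun i => zero_smul R (b i)), Fin.sum_univ_castSucc]
      simpa only [smul_eq_mul] using hf
    have := trivOf_map b Fin.castSucc (relations_trivial _ h.init g hlg)
    rw [← hg] at this
    simpa using Submodule.add_mem _ this ht

theorem isWReg_of_list (rs : List R) (h : RingTheory.Sequence.IsWeaklyRegular R rs) :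
    IsWReg (fun i : Fin rs.length => rs.get i) := by
  intro i x hx
  have hI : Ideal.span ((fun j : Fin rs.length => rs.get j) '' Set.Iio i) = Ideal.ofList (rs.take i) := by
    rw [Ideal.ofList]
    congr 1
    ext y
    simp only [Set.mem_image, Set.mem_Iio, List.get_eq_getElem, Set.mem_ofPred_eq, List.mem_take_iff_getElem]
    constructor
    · rintro ⟨j, hj, rfl⟩
      exact ⟨j, by have := j.2; omega, rfl⟩
    · rintro ⟨j, hj, rfl⟩
      exact ⟨⟨j, by omega⟩, Fin.lt_def.2 (by simp only; omega), rfl⟩
  rw [hI] at hx ⊢
  have hreg := h.regular_mod_prev i i.2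
  rw [Ideal.smul_eq_mul, Ideal.mul_top] at hreg
  have h1 : (Submodule.Quotient.mk x : R ⧸ Ideal.ofList (rs.take i)) = 0 := by
    refine hreg ?_
    simp only [← Submodule.Quotient.mk_smul, smul_zero, smul_eq_mul]
    exact (Submodule.Quotient.mk_eq_zero _).2 hx
  exact (Submodule.Quotient.mk_eq_zero _).1 h1

theorem IsWReg.map {S : Type*} [CommRing S] {r : ℕ} {b : Fin r → R} (h : IsWReg b) (e : R ≃+* S) :
    IsWReg (fun i => e (b i)) := by
  intro i x hx
  have hI : Ideal.span ((fun j => e (b j)) '' Set.Iio i) = (Ideal.span (b '' Set.Iio i)).map e.toRingHom := by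
    rw [Ideal.map_span, ← Set.image_comp]; rfl
  rw [hI, Ideal.mem_map_iff_of_surjective e.toRingHom e.surjective] at hx ⊢
  obtain ⟨y, hy, he⟩ := hx
  refine ⟨e.symm x, h i _ ?_, e.apply_symm_apply x⟩
  have : b i * e.symm x = y := e.injective (by rw [map_mul, e.apply_symm_apply]; exact he.symm)
  rwa [this]

end Koszul

section Vanish

variable {A : Type u} {B : Type v} {ι : Type w} {σ : Type t}
variable [CommRing A] [CommRing B] [Algebra A B] (P : Algebra.Presentation A B ι σ)

theorem subsingleton_L2 (h : ∀ q : relKer P, (q : relMod P) ∈ trivRel P) : Subsingleton (L2 P) :=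
  subsingleton_of_forall_eq 0 fun z => by
    obtain ⟨q, rfl⟩ := mkL2_surjective P z
    exact (mkL2_eq_zero_iff P q).2 (h q)

theorem subsingleton_T2 (h : Subsingleton (L2 P)) (M : Type m) [AddCommGroup M] [Module B M] :
    Subsingleton (T2 P M) :=
  subsingleton_of_forall_eq 0 fun x => by
    induction x using Submodule.Quotient.induction_on with
    | H c => exact (T2_mk_eq_zero P c).2 ⟨0, LinearMap.ext fun z => by rw [Subsingleton.elim z 0]; simp⟩

theorem subsingleton_T1_of_isEmpty [IsEmpty σ] (M : Type m) [AddCommGroup M] [Module B M] :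
    Subsingleton (T1 P M) :=
  subsingleton_of_forall_eq 0 fun x => by
    induction x using Submodule.Quotient.induction_on with
    | H c => exact (T1_mk_eq_zero P c).2 ⟨0, (L1basis P).ext isEmptyElim⟩

theorem subsingleton_T2_of_isEmpty [IsEmpty σ] (M : Type m) [AddCommGroup M] [Module B M] :
    Subsingleton (T2 P M) :=
  subsingleton_T2 P (subsingleton_L2 P fun q => by
    rw [Subsingleton.elim (q : relMod P) 0]; exact Submodule.zero_mem _) M

theorem subsingleton_L2_of_regular {r : ℕ} (P : Algebra.Presentation A B ι (Fin r)) (h : IsWReg (rel P)) :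
    Subsingleton (L2 P) :=
  subsingleton_L2 P fun q => relations_trivial (rel P) h (q : relMod P) q.2

/-- The presentation of a polynomial algebra without relations. -/
def polyPres {κ : Type w} (e : MvPolynomial κ A ≃ₐ[A] B) : Algebra.Presentation A B κ PEmpty.{t + 1} where
  toGenerators := Algebra.Generators.ofSurjective (fun i => e (MvPolynomial.X i)) fun y => by
    obtain ⟨p, rfl⟩ := e.surjective y
    exact ⟨p, (DFunLike.congr_fun (MvPolynomial.aeval_unique e.toAlgHom) p).symm⟩
  relation := PEmpty.elim
  span_range_relation_eq_ker := by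
    rw [Algebra.Generators.ker_eq_ker_aeval_val, Set.range_eq_empty, Ideal.span_empty]
    refine ((RingHom.injective_iff_ker_eq_bot _).1 fun p q h => e.injective ?_).symm
    exact (DFunLike.congr_fun (MvPolynomial.aeval_unique e.toAlgHom) p).trans
      (h.trans (DFunLike.congr_fun (MvPolynomial.aeval_unique e.toAlgHom) q).symm)

/-- The presentation of `A/(f)` without variables. -/
def quotPres {r : ℕ} (b : Fin r → A) (hs : Function.Surjective (algebraMap A B))
    (hb : RingHom.ker (algebraMap A B) = Ideal.span (Set.range b)) :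
    Algebra.Presentation A B PEmpty.{w + 1} (Fin r) where
  toGenerators := Algebra.Generators.ofSurjective PEmpty.elim fun y => by
    obtain ⟨a, rfl⟩ := hs y
    exact ⟨MvPolynomial.C a, by simp⟩
  relation := fun i => MvPolynomial.C (b i)
  span_range_relation_eq_ker := by
    ext p
    obtain ⟨a, rfl⟩ := MvPolynomial.C_surjective PEmpty.{w + 1} p
    rw [Algebra.Generators.ker_eq_ker_aeval_val, RingHom.mem_ker, MvPolynomial.aeval_C, ← RingHom.mem_ker, hb,
      show Set.range (fun i => MvPolynomial.C (σ := PEmpty.{w + 1}) (b i)) = MvPolynomial.C '' Set.range b from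
        Set.range_comp _ _, ← Ideal.map_span]
    refine ⟨fun h => ?_, fun h => Ideal.mem_map_of_mem _ h⟩
    rw [Ideal.mem_map_iff_of_surjective _ (MvPolynomial.C_surjective _)] at h
    obtain ⟨y, hy, e⟩ := h
    rwa [← MvPolynomial.C_injective _ _ e]

theorem quotPres_regular {r : ℕ} (b : Fin r → A) (hs : Function.Surjective (algebraMap A B))
    (hb : RingHom.ker (algebraMap A B) = Ideal.span (Set.range b)) (h : IsWReg b) :
    IsWReg (rel (quotPres.{u, v, w} b hs hb)) :=
  h.map (RingEquiv.ofBijective (MvPolynomial.C : A →+* MvPolynomial PEmpty.{w + 1} A)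
    ⟨MvPolynomial.C_injective _ _, MvPolynomial.C_surjective _⟩)

end Vanish

end Groth.Agent.CotT
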