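import Groth.Agent.CotT.NineTerm
import Groth.Agent.CotT.Regular
import Groth.Agent.SerreReg.CM
import Mathlib.RingTheory.KrullDimension.Regular

/-! Complete intersections and `T²`. -/

open TensorProduct IsLocalRing RingTheory.Sequence

noncomputable section

namespace Groth.Agent.CotT

open _root_.CotT

universe u w

attribute [local instance] relKerGroup

set_option maxHeartbeats 1600000

section Converse

variable {R : Type u} [CommRing R]

theorem linearCombination_fintype {S : Type*} [CommRing S] {κ : Type*} [Fintype κ] (b : κ → S) (f : κ →₀ S) :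
    Finsupp.linearCombination S b f = ∑ i, f i * b i := by
  rw [Finsupp.linearCombination_apply, Finsupp.sum_fintype _ _ (fun i => zero_smul S (b i))]
  rfl

/-- Forgetting the last coordinate. -/
def initL (r : ℕ) : (Fin (r + 1) →₀ R) →ₗ[R] (Fin r →₀ R) :=
  Finsupp.lcomapDomain Fin.castSucc (Fin.castSucc_injective r)

theorem linearCombination_initL {r : ℕ} (b : Fin (r + 1) → R) (f : Fin (r + 1) →₀ R) :
    Finsupp.linearCombination R b f =
      Finsupp.linearCombination R (b ∘ Fin.castSucc) (initL r f) + f (Fin.last r) * b (Fin.last r) := by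
  rw [linearCombination_fintype, linearCombination_fintype, Fin.sum_univ_castSucc]
  rfl

theorem trivOf_decomp {r : ℕ} (b : Fin (r + 1) → R) {f : Fin (r + 1) →₀ R} (hf : f ∈ trivOf b) :
    ∃ c : Fin r →₀ R, f (Fin.last r) = Finsupp.linearCombination R (b ∘ Fin.castSucc) c ∧
      initL r f + b (Fin.last r) • c ∈ trivOf (b ∘ Fin.castSucc) := by
  induction hf using Submodule.span_induction with
  | mem y hy =>
    obtain ⟨a, a', rfl⟩ := hy
    refine ⟨a' (Fin.last r) • initL r a - a (Fin.last r) • initL r a', ?_, ?_⟩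
    · rw [map_sub, map_smul, map_smul, Finsupp.sub_apply, Finsupp.smul_apply, Finsupp.smul_apply, smul_eq_mul,
        smul_eq_mul, smul_eq_mul, smul_eq_mul, linearCombination_initL b a, linearCombination_initL b a']
      ring
    · refine Submodule.subset_span ⟨initL r a, initL r a', ?_⟩
      rw [map_sub, map_smul, map_smul, linearCombination_initL b a, linearCombination_initL b a']
      module
  | zero => exact ⟨0, by simp, by rw [map_zero, smul_zero, add_zero]; exact Submodule.zero_mem _⟩
  | add x y _ _ hx hy =>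
    obtain ⟨c, hc, hu⟩ := hx
    obtain ⟨c', hc', hu'⟩ := hy
    refine ⟨c + c', by rw [Finsupp.add_apply, hc, hc', map_add], ?_⟩
    rw [map_add, smul_add, add_add_add_comm]
    exact Submodule.add_mem _ hu hu'
  | smul t x _ hx =>
    obtain ⟨c, hc, hu⟩ := hx
    refine ⟨t • c, by rw [Finsupp.smul_apply, hc, map_smul], ?_⟩
    rw [map_smul, smul_comm (b (Fin.last r)) t, ← smul_add]
    exact Submodule.smul_mem _ _ hu

theorem wreg_of_relations_trivial [IsNoetherianRing R] : ∀ {r : ℕ} (b : Fin r → R),
    (∀ i, b i ∈ Ideal.jacobson ⊥) → (∀ f, Finsupp.linearCombination R b f = 0 → f ∈ trivOf b) → IsWReg b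
  | 0, _, _, _ => fun i => i.elim0
  | r + 1, b, hj, h => by
    set b' := b ∘ Fin.castSucc
    set x := b (Fin.last r)
    let Rel := LinearMap.ker (Finsupp.linearCombination R b')
    have hinj := Fin.castSucc_injective r
    have hinit : ∀ g : Fin r →₀ R, initL r (Finsupp.mapDomain Fin.castSucc g) = g := fun g => by
      ext i; exact Finsupp.mapDomain_apply hinj g i
    have hlast : ∀ g : Fin r →₀ R, Finsupp.mapDomain Fin.castSucc g (Fin.last r) = 0 := fun g =>
      Finsupp.mapDomain_notin_range _ _ (by simp)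
    have hle : Rel ≤ trivOf b' ⊔ Ideal.span {x} • Rel := by
      intro g hg
      obtain ⟨c, hc, hu⟩ := trivOf_decomp b (h _ ((Finsupp.linearCombination_mapDomain R _ g).trans hg))
      rw [hlast] at hc
      rw [hinit] at hu
      have : g = (g + x • c) + x • (-c) := by rw [smul_neg, add_neg_cancel_right]
      rw [this]
      exact Submodule.add_mem_sup hu (Submodule.smul_mem_smul (Ideal.mem_span_singleton_self x)
        (show -c ∈ Rel from Submodule.neg_mem _ hc.symm))
    have hsub := Submodule.le_of_le_smul_of_le_jacobson_bot (IsNoetherian.noetherian Rel)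
      ((Ideal.span_singleton_le_iff_mem _).2 (hj _)) hle
    have ih := wreg_of_relations_trivial b' (fun i => hj _) fun f hf => hsub hf
    intro i a ha
    cases i using Fin.lastCases with
    | last =>
      have hI : b '' Set.Iio (Fin.last r) = Set.range b' := by
        rw [Set.range_comp, Fin.range_castSucc]
        congr 1
      rw [hI] at ha ⊢
      obtain ⟨g, hg⟩ := Finsupp.mem_span_range_iff_exists_finsupp.1 ha
      let f : Fin (r + 1) →₀ R := Finsupp.single (Fin.last r) a - Finsupp.mapDomain Fin.castSucc g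
      have hf : Finsupp.linearCombination R b f = 0 := by
        rw [map_sub, Finsupp.linearCombination_mapDomain, Finsupp.linearCombination_single,
          show Finsupp.linearCombination R (b ∘ Fin.castSucc) g = x * a from hg, smul_eq_mul, mul_comm, sub_self]
      obtain ⟨c, hc, -⟩ := trivOf_decomp b (h f hf)
      rw [Finsupp.sub_apply, hlast, sub_zero, Finsupp.single_eq_same] at hc
      rw [hc]
      exact Finsupp.mem_span_range_iff_exists_finsupp.2 ⟨c, rfl⟩
    | cast i =>
      have e : b '' Set.Iio i.castSucc = b' '' Set.Iio i := by rw [Set.image_comp, Fin.image_castSucc_Iio]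
      rw [e] at ha ⊢
      exact ih i a ha

theorem isWeaklyRegular_ofFn {r : ℕ} {b : Fin r → R} (h : IsWReg b) : IsWeaklyRegular R (List.ofFn b) := by
  refine ⟨fun i hi => ?_⟩
  rw [List.length_ofFn] at hi
  have heq : Ideal.ofList ((List.ofFn b).take i) • (⊤ : Submodule R R) = Ideal.span (b '' Set.Iio ⟨i, hi⟩) := by
    rw [Ideal.smul_eq_mul, Ideal.mul_top, Ideal.ofList]
    congr 1
    ext v
    simp only [Set.mem_ofPred_eq, List.mem_take_iff_getElem, List.getElem_ofFn, List.length_ofFn, Set.mem_image,
      Set.mem_Iio, Fin.lt_def]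
    constructor
    · rintro ⟨j, hj, rfl⟩
      exact ⟨⟨j, by omega⟩, by simp only; omega, rfl⟩
    · rintro ⟨j, hj, rfl⟩
      exact ⟨j, by have := j.2; omega, rfl⟩
  rw [List.getElem_ofFn]
  refine ((Submodule.quotEquivOfEq _ _ heq).isSMulRegular_congr _).2 fun p q hpq => ?_
  induction p using Submodule.Quotient.induction_on with
  | H p =>
    induction q using Submodule.Quotient.induction_on with
    | H q =>
      simp only [← Submodule.Quotient.mk_smul, Submodule.Quotient.eq, smul_eq_mul, ← mul_sub] at hpq ⊢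
      exact h _ _ hpq

end Converse

section RegularLocal

variable {A : Type u} [CommRing A] [IsRegularLocalRing A]

theorem isWeaklyRegular_of_dim (rs : List A) (hI : Ideal.ofList rs ≠ ⊤)
    (h : (rs.length : WithBot ℕ∞) + ringKrullDim (A ⧸ Ideal.ofList rs) = ringKrullDim A) :
    IsWeaklyRegular A rs := by
  set I := Ideal.ofList rs with hIdef
  have : Nontrivial (A ⧸ I) := Ideal.Quotient.nontrivial_iff.2 hI
  have : IsLocalRing (A ⧸ I) := .of_surjective' (Ideal.Quotient.mk I) Ideal.Quotient.mk_surjective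
  obtain ⟨d, hd⟩ := SerreReg.exists_dim_nat A
  obtain ⟨e, he⟩ := SerreReg.exists_dim_nat (A ⧸ I)
  have hde : rs.length + e = d := by rw [hd, he] at h; exact_mod_cast h
  obtain ⟨ā, hā⟩ := SerreReg.exists_sop (A ⧸ I) e he
  choose a' ha' using fun i => Ideal.Quotient.mk_surjective (ā i)
  let a : Fin (rs.length + e) → A := Fin.append (fun i => rs[(i : ℕ)]) a'
  have hmap : (Ideal.span (Set.range a)).map (Ideal.Quotient.mk I) = Ideal.span (Set.range ā) := by
    rw [Ideal.map_span]
    refine le_antisymm (Ideal.span_le.2 ?_) (Ideal.span_le.2 ?_)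
    · rintro _ ⟨_, ⟨i, rfl⟩, rfl⟩
      cases i using Fin.addCases with
      | left i =>
        simp only [a, Fin.append_left]
        rw [Ideal.Quotient.eq_zero_iff_mem.2 (Ideal.subset_span (s := {r | r ∈ rs}) (List.getElem_mem i.2))]
        exact Submodule.zero_mem _
      | right i =>
        simp only [a, Fin.append_right, ha']
        exact Ideal.subset_span ⟨i, rfl⟩
    · rintro _ ⟨i, rfl⟩
      exact Ideal.subset_span ⟨a (Fin.natAdd _ i), ⟨_, rfl⟩, by simp [a, ha']⟩
  have hle : I ≤ Ideal.span (Set.range a) := by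
    refine Ideal.span_le.2 fun v hv => ?_
    obtain ⟨i, hi, rfl⟩ := List.getElem_of_mem hv
    exact Ideal.subset_span ⟨Fin.castAdd e ⟨i, hi⟩, Fin.append_left _ _ _⟩
  have hsop : CMSop.IsSop a := by
    have hc : ((Ideal.span (Set.range a)).map (Ideal.Quotient.mk I)).comap (Ideal.Quotient.mk I) =
        Ideal.span (Set.range a) := by
      rw [Ideal.comap_map_of_surjective' _ Ideal.Quotient.mk_surjective, Ideal.mk_ker, sup_eq_left.2 hle]
    rw [CMSop.IsSop, ← hc, hmap, ← Ideal.comap_radical, show (Ideal.span (Set.range ā)).radical = _ from hā]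
    have := Ideal.comap_isMaximal_of_surjective (Ideal.Quotient.mk I) Ideal.Quotient.mk_surjective
      (K := maximalIdeal (A ⧸ I))
    exact IsLocalRing.eq_maximalIdeal this
  obtain ⟨rA, hlenA, hregA, hspanA⟩ := SerreReg.exists_regular_rsop d A hd
  have hR : CMSop.HasRegSeq (R := A) (rs.length + e) A := by
    rw [hde, ← hlenA]
    exact CMSop.hasRegSeq_of_isWeaklyRegular rA A hregA fun r hr => hspanA ▸ Ideal.subset_span hr
  have := SerreReg.isWeaklyRegular_take_of_isSop hsop hR rs.length
  rwa [List.ofFn_fin_append, List.ofFn_getElem, List.take_left] at this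

theorem dim_of_isWeaklyRegular (rs : List A) (hI : Ideal.ofList rs ≠ ⊤) (h : IsWeaklyRegular A rs) :
    (rs.length : WithBot ℕ∞) + ringKrullDim (A ⧸ Ideal.ofList rs) = ringKrullDim A := by
  rw [add_comm]
  refine ringKrullDim_add_length_eq_ringKrullDim_of_isRegular rs ⟨h, ?_⟩
  rw [Ideal.smul_eq_mul, Ideal.mul_top]
  exact hI.symm

end RegularLocal

section Minimal

theorem exists_minimal_generators {A : Type u} [CommRing A] [IsNoetherianRing A] [IsLocalRing A] (I : Ideal A) :
    ∃ (r : ℕ) (b : Fin r → A), Ideal.span (Set.range b) = I ∧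
      ∀ f, Finsupp.linearCombination A b f = 0 → ∀ s, f s ∈ maximalIdeal A := by
  obtain ⟨T, hT⟩ := Submodule.FG.exists_span_finset_card_eq_spanFinrank (IsNoetherian.noetherian I)
  classical
  let b : Fin T.card → A := fun i => (T.equivFin.symm i : A)
  have hb : Set.range b = (T : Set A) := by
    ext v
    exact ⟨fun ⟨i, hi⟩ => hi ▸ (T.equivFin.symm i).2, fun hv => ⟨T.equivFin ⟨v, hv⟩, by simp [b]⟩⟩
  refine ⟨T.card, b, by rw [hb]; exact hT.2, fun f hf s => ?_⟩
  by_contra hu
  rw [mem_maximalIdeal, mem_nonunits_iff, not_not] at hu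
  have hs : b s ∈ Ideal.span ((T.erase (b s) : Finset A) : Set A) := by
    rw [Finsupp.linearCombination_apply, Finsupp.sum_fintype _ _ (fun i => zero_smul A (b i)),
      ← Finset.add_sum_erase _ _ (Finset.mem_univ s), add_eq_zero_iff_eq_neg, smul_eq_mul] at hf
    refine (Ideal.unit_mul_mem_iff_mem _ hu).1 (hf ▸ neg_mem (Submodule.sum_mem _ fun i hi => ?_))
    refine Submodule.smul_mem _ _ (Ideal.subset_span (Finset.mem_erase.2 ⟨?_, (T.equivFin.symm i).2⟩))
    exact fun e => (Finset.ne_of_mem_erase hi) (T.equivFin.symm.injective (Subtype.ext e))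
  have hspan : Submodule.span A ((T.erase (b s) : Finset A) : Set A) = I := by
    refine le_antisymm ?_ ?_
    · rw [← hT.2]; exact Submodule.span_mono (Finset.coe_subset.2 (Finset.erase_subset _ _))
    · conv_lhs => rw [← hT.2]
      refine Submodule.span_le.2 fun v hv => ?_
      by_cases e : v = b s
      · rw [e]; exact hs
      · exact Submodule.subset_span (Finset.mem_erase.2 ⟨e, hv⟩)
  have h1 := Submodule.spanFinrank_span_le_ncard_of_finite (R := A) (Finset.finite_toSet (T.erase (b s)))
  rw [hspan, Set.ncard_coe_finset, ← hT.1] at h1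
  have h2 := Finset.card_erase_lt_of_mem (s := T) (a := b s) (T.equivFin.symm s).2
  omega

end Minimal

section Main

variable {k A : Type u} [CommRing k] [CommRing A] [Algebra k A] (I : Ideal A)

theorem subsingleton_T2_iff_quotient {r : ℕ} (Q : Algebra.Presentation A (A ⧸ I) PEmpty.{u + 1} (Fin r))
    (hT : ∀ (N : Type u) [AddCommGroup N] [Module A N],
      Subsingleton (T1 (canon k A) N) ∧ Subsingleton (T2 (canon k A) N))
    (M : Type u) [AddCommGroup M] [Module (A ⧸ I) M] :
    Subsingleton (T2 (canon k (A ⧸ I)) M) ↔ Subsingleton (T2 Q M) := by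
  let _ : Module A M := Module.compHom M (algebraMap A (A ⧸ I))
  have : IsScalarTower A (A ⧸ I) M := IsScalarTower.of_compHom A (A ⧸ I) M
  obtain ⟨h1, h2⟩ := hT M
  let P := canon k A
  have hinj : Function.Injective ((outH Q P).T2pull M) := (injective_iff_map_eq_zero _).2 fun y hy => by
    obtain ⟨t, rfl⟩ := (exact_T2Q Q P M y).1 hy
    rw [Subsingleton.elim t 0, map_zero]
  have hsurj : Function.Surjective ((outH Q P).T2pull M) := fun y =>
    (exact_T2T Q P M y).1 (Subsingleton.elim _ _)
  let e := T2equiv (canon k (A ⧸ I)) (Q.comp P) M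
  rw [← e.toEquiv.subsingleton_congr]
  exact (Equiv.ofBijective _ ⟨hinj, hsurj⟩).subsingleton_congr.symm

end Main

section Quot

variable {A : Type u} [CommRing A] [IsNoetherianRing A] [IsLocalRing A] (I : Ideal A) (hI : I ≠ ⊤)

theorem wreg_of_T2 {r : ℕ} (b : Fin r → A) (hspan : Ideal.span (Set.range b) = I)
    (hmin : ∀ f, Finsupp.linearCombination A b f = 0 → ∀ s, f s ∈ maximalIdeal A) (hI : I ≠ ⊤)
    (hb : RingHom.ker (algebraMap A (A ⧸ I)) = Ideal.span (Set.range b))
    (hT : ∀ (M : Type u) [AddCommGroup M] [Module (A ⧸ I) M],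
      Subsingleton (T2 (quotPres.{u, u, u} b Ideal.Quotient.mk_surjective hb) M)) : IsWReg b := by
  set P := quotPres.{u, u, u} b Ideal.Quotient.mk_surjective hb with hP
  let e : A ≃+* P.toExtension.Ring := RingEquiv.ofBijective (MvPolynomial.C : A →+* MvPolynomial PEmpty.{u + 1} A)
    ⟨MvPolynomial.C_injective _ _, MvPolynomial.C_surjective _⟩
  have : IsNoetherianRing P.toExtension.Ring := isNoetherianRing_of_ringEquiv A e
  have : IsLocalRing P.toExtension.Ring := e.isLocalRing
  have : Nontrivial (A ⧸ I) := Ideal.Quotient.nontrivial_iff.2 hI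
  have : IsLocalRing (A ⧸ I) := .of_surjective' (Ideal.Quotient.mk I) Ideal.Quotient.mk_surjective
  have hrel : rel P = fun i => e (b i) := rfl
  have hcoef : ∀ q : relKer P, ∀ s, algebraMap P.toExtension.Ring (A ⧸ I) ((q : relMod P) s) ∈ maximalIdeal (A ⧸ I) := by
    intro q s
    have hq : Finsupp.linearCombination P.toExtension.Ring (rel P) (q : relMod P) = 0 := q.2
    let g : Fin r →₀ A := Finsupp.mapRange e.symm (map_zero _) (q : relMod P)
    have hg : Finsupp.linearCombination A b g = 0 := by
      apply e.injective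
      rw [map_zero, ← hq]
      simp only [linearCombination_fintype, map_sum, map_mul, g, Finsupp.mapRange_apply,
        RingEquiv.apply_symm_apply, hrel]
    have h1 := hmin g hg s
    obtain ⟨a, ha⟩ : ∃ a, e a = (q : relMod P) s := e.surjective _
    have ha' : g s = a := by simp [g, ← ha]
    rw [ha'] at h1
    rw [← ha, show algebraMap P.toExtension.Ring (A ⧸ I) (e a) = algebraMap A (A ⧸ I) a from
      (algebraMap_toExtension P _).trans (MvPolynomial.aeval_C _ _)]
    rw [← IsLocalRing.map_maximalIdeal_of_surjective (Ideal.Quotient.mk I) Ideal.Quotient.mk_surjective]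
    exact Ideal.mem_map_of_mem _ h1
  have : Module.Finite (A ⧸ I) (L2 P) := by
    have : Module.Finite P.toExtension.Ring (relKer P) := Module.Finite.of_fg (IsNoetherian.noetherian _)
    have : Module.Finite P.toExtension.Ring (L2 P) := Module.Finite.of_surjective (mkL2 P) (mkL2_surjective P)
    exact Module.Finite.of_restrictScalars_finite P.toExtension.Ring _ _
  let N : Submodule (A ⧸ I) (L2 P) := maximalIdeal (A ⧸ I) • ⊤
  have hN : N = ⊤ := by
    have := hT (L2 P ⧸ N)
    obtain ⟨ψ, hψ⟩ := (T2_mk_eq_zero P N.mkQ).1 (Subsingleton.elim _ _)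
    refine eq_top_iff.2 fun z _ => ?_
    rw [← Submodule.Quotient.mk_eq_zero N]
    obtain ⟨q, rfl⟩ := mkL2_surjective P z
    rw [← Submodule.mkQ_apply, ← hψ, LinearMap.comp_apply, d2_mkL2]
    have hsum : ((1 : A ⧸ I) ⊗ₜ (q : relMod P) : L1 P) =
        ∑ s, algebraMap P.toExtension.Ring (A ⧸ I) ((q : relMod P) s) • L1basis P s := by
      conv_lhs => rw [← Finsupp.univ_sum_single (q : relMod P), tmul_sum]
      refine Finset.sum_congr rfl fun s _ => ?_
      rw [L1basis_apply, ← Finsupp.smul_single_one, tmul_smul, smul_tmul', smul_tmul', Algebra.smul_def, smul_eq_mul]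
    rw [hsum, map_sum]
    refine Finset.sum_eq_zero fun s _ => ?_
    obtain ⟨y, hy⟩ := Submodule.Quotient.mk_surjective N (ψ (L1basis P s))
    rw [LinearMap.map_smul, ← hy, ← Submodule.Quotient.mk_smul, Submodule.Quotient.mk_eq_zero]
    exact Submodule.smul_mem_smul (hcoef q s) Submodule.mem_top
  have htop : (⊤ : Submodule (A ⧸ I) (L2 P)) = ⊥ :=
    Submodule.eq_bot_of_le_smul_of_le_jacobson_bot (maximalIdeal (A ⧸ I)) ⊤ Module.Finite.fg_top hN.ge
      (maximalIdeal_le_jacobson _)
  have htriv : ∀ f, Finsupp.linearCombination P.toExtension.Ring (rel P) f = 0 → f ∈ trivOf (rel P) := fun f hf =>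
    (mkL2_eq_zero_iff P ⟨f, hf⟩).1 ((Submodule.mem_bot _).1 (htop ▸ Submodule.mem_top))
  have hw := wreg_of_relations_trivial (rel P) (fun i => maximalIdeal_le_jacobson _ fun hu => ?_) htriv
  · convert hw.map e.symm using 1
    funext i
    rw [hrel, RingEquiv.symm_apply_apply]
  · rw [hrel] at hu
    have hbi : b i ∈ I := hspan ▸ Ideal.subset_span ⟨i, rfl⟩
    exact le_maximalIdeal hI hbi ((isUnit_map_iff e (b i)).1 hu)

end Quot

theorem completeIntersection_iff {k A : Type u} [CommRing k] [CommRing A] [IsRegularLocalRing A] [Algebra k A]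
    (hT : ∀ (N : Type u) [AddCommGroup N] [Module A N],
      Subsingleton (T1 (canon k A) N) ∧ Subsingleton (T2 (canon k A) N))
    (I : Ideal A) (hI : I ≠ ⊤) :
    (∃ rs : List A, Ideal.ofList rs = I ∧ (rs.length : WithBot ℕ∞) + ringKrullDim (A ⧸ I) = ringKrullDim A) ↔
      ∀ (M : Type u) [AddCommGroup M] [Module (A ⧸ I) M], Subsingleton (T2 (canon k (A ⧸ I)) M) := by
  constructor
  · rintro ⟨rs, rfl, h⟩ M _ _
    have hb : RingHom.ker (algebraMap A (A ⧸ Ideal.ofList rs)) = Ideal.span (Set.range rs.get) := by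
      rw [Ideal.Quotient.algebraMap_eq, Ideal.mk_ker, Set.range_list_get]
    let Q := quotPres.{u, u, u} rs.get Ideal.Quotient.mk_surjective hb
    have hreg := isWReg_of_list rs (isWeaklyRegular_of_dim rs hI h)
    exact (subsingleton_T2_iff_quotient _ Q hT M).2
      (subsingleton_T2 Q (subsingleton_L2_of_regular Q (quotPres_regular _ _ hb hreg)) M)
  · intro hM
    obtain ⟨r, b, hspan, hmin⟩ := exists_minimal_generators I
    have hb : RingHom.ker (algebraMap A (A ⧸ I)) = Ideal.span (Set.range b) := by
      rw [Ideal.Quotient.algebraMap_eq, Ideal.mk_ker, hspan]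
    have hreg := wreg_of_T2 I b hspan hmin hI hb fun M _ _ =>
      (subsingleton_T2_iff_quotient I _ hT M).1 (hM M)
    have hl : Ideal.ofList (List.ofFn b) = I := by
      rw [← hspan, Ideal.ofList]
      congr 1
      ext v
      simp
    refine ⟨List.ofFn b, hl, ?_⟩
    have h1 := dim_of_isWeaklyRegular (List.ofFn b) (hl ▸ hI) (isWeaklyRegular_ofFn hreg)
    rwa [hl] at h1

end Groth.Agent.CotT
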