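import Groth.Agent.CotT.Regular
import Groth.Agent.RegLoc.QuotientRegular
import Groth.Agent.SerreReg.Regular
import Groth.Agent.S0564

/-! A regular quotient of a regular local ring is cut out by a regular sequence. -/

universe u

noncomputable section

namespace Groth.Agent.CotT

open IsLocalRing

theorem isRegularRing_of_local (R : Type u) [CommRing R] [IsRegularLocalRing R] : IsRegularRing R :=
  isRegularRing_iff.2 fun p hp => @Groth.Agent.S0564.result R _ _ p hp

theorem exists_wreg_generators_aux (N : ℕ) : ∀ (R : Type u) [CommRing R] [IsRegularLocalRing R],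
    (maximalIdeal R).spanFinrank ≤ N → ∀ n : Ideal R, n ≠ ⊤ → IsRegularRing (R ⧸ n) →
      ∃ (r : ℕ) (b : Fin r → R), Ideal.span (Set.range b) = n ∧ IsWReg b := by
  induction N with
  | zero =>
    intro R _ _ hN n hn _
    have hm : maximalIdeal R = ⊥ :=
      (Submodule.spanFinrank_eq_zero_iff_eq_bot (IsNoetherian.noetherian _)).1 (Nat.le_zero.1 hN)
    have : n = ⊥ := le_bot_iff.1 ((le_maximalIdeal hn).trans hm.le)
    exact ⟨0, Fin.elim0, by rw [Set.range_eq_empty, Ideal.span_empty, this], fun i => i.elim0⟩
  | succ N ih =>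
    intro R _ _ hN n hn hreg
    by_cases hbot : n = ⊥
    · exact ⟨0, Fin.elim0, by rw [Set.range_eq_empty, Ideal.span_empty, hbot], fun i => i.elim0⟩
    have := hreg
    obtain ⟨x, hx, hx2⟩ : ∃ x ∈ n, x ∉ maximalIdeal R ^ 2 := by
      by_contra h
      push Not at h
      refine hbot (Submodule.eq_bot_of_le_smul_of_le_jacobson_bot (maximalIdeal R) n (IsNoetherian.noetherian _) ?_
        (maximalIdeal_le_jacobson _))
      exact fun y hy => RegLoc.inf_sq_le_mul_of_regular_quotient n hn ⟨hy, h y hy⟩
    have hxm : x ∈ maximalIdeal R := le_maximalIdeal hn hx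
    obtain ⟨hR', hxreg⟩ := SerreReg.isRegularLocalRing_quot hxm hx2
    have := hR'
    have hdrop := SerreReg.spanFinrank_quot_succ_le hxm hx2
    have hle : Ideal.span {x} ≤ n := (Ideal.span_singleton_le_iff_mem _).2 hx
    let π := Ideal.Quotient.mk (Ideal.span {x})
    have hπ : Function.Surjective π := Ideal.Quotient.mk_surjective
    have hcomap : (n.map π).comap π = n := by
      rw [Ideal.comap_map_of_surjective' _ hπ, Ideal.mk_ker, sup_eq_left.2 hle]
    have hn' : n.map π ≠ ⊤ := fun h => hn (by rw [← hcomap, h, Ideal.comap_top])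
    have hreg' : IsRegularRing ((R ⧸ Ideal.span {x}) ⧸ n.map π) :=
      IsRegularRing.of_ringEquiv (DoubleQuot.quotQuotEquivQuotOfLE hle).symm
    obtain ⟨r, b', hspan', hb'⟩ := ih (R ⧸ Ideal.span {x}) (by omega) (n.map π) hn' hreg'
    choose b hb using fun i => hπ (b' i)
    have hπb : π ∘ b = b' := funext hb
    have hpre : ∀ T : Set (Fin r), Ideal.span (insert x (b '' T)) = (Ideal.span (b' '' T)).comap π := fun T => by
      rw [← hπb, Set.image_comp, ← Ideal.map_span, Ideal.comap_map_of_surjective' _ hπ, Ideal.mk_ker,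
        Ideal.span_insert, sup_comm]
    refine ⟨r + 1, Fin.cons x b, ?_, ?_⟩
    · rw [Fin.range_cons, ← Set.image_univ, hpre, Set.image_univ, hspan', hcomap]
    · intro i y hy
      cases i using Fin.cases with
      | zero =>
        have h0 : (Fin.cons x b : Fin (r + 1) → R) '' Set.Iio (0 : Fin (r + 1)) = ∅ := by
          rw [show Set.Iio (0 : Fin (r + 1)) = ∅ from Set.eq_empty_of_forall_notMem fun j hj => absurd hj (by simp),
            Set.image_empty]
        rw [h0, Ideal.span_empty] at hy ⊢
        rw [Submodule.mem_bot] at hy ⊢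
        exact hxreg (show x * y = x * 0 by rw [mul_zero]; simpa using hy)
      | succ i =>
        have he : (Fin.cons x b : Fin (r + 1) → R) '' Set.Iio i.succ = insert x (b '' Set.Iio i) := by
          ext z
          constructor
          · rintro ⟨j, hj, rfl⟩
            cases j using Fin.cases with
            | zero => exact Or.inl (by simp)
            | succ j => exact Or.inr ⟨j, Fin.succ_lt_succ_iff.1 hj, by simp⟩
          · rintro (rfl | ⟨j, hj, rfl⟩)
            · exact ⟨0, Fin.succ_pos i, by simp⟩
            · exact ⟨j.succ, Fin.succ_lt_succ_iff.2 hj, by simp⟩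
        rw [he, hpre, Ideal.mem_comap] at hy ⊢
        rw [Fin.cons_succ, map_mul, hb] at hy
        exact hb' i _ hy

theorem exists_wreg_generators {R : Type u} [CommRing R] [IsRegularLocalRing R] (n : Ideal R) (hn : n ≠ ⊤)
    [IsRegularRing (R ⧸ n)] : ∃ (r : ℕ) (b : Fin r → R), Ideal.span (Set.range b) = n ∧ IsWReg b :=
  exists_wreg_generators_aux _ R le_rfl n hn inferInstance

end Groth.Agent.CotT
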