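import Groth.Agent.CotT.Homotopy

/-! Composition and existence of morphisms of presentations; independence of the presentation. -/

open TensorProduct

noncomputable section

namespace Groth.Agent.CotT

open _root_.CotT

universe u v w t u' v' w' t' u'' v'' w'' t'' m

variable {A : Type u} {B : Type v} {ι : Type w} {σ : Type t}
variable {A' : Type u'} {B' : Type v'} {ι' : Type w'} {σ' : Type t'}
variable [CommRing A] [CommRing B] [Algebra A B] [CommRing A'] [CommRing B'] [Algebra A' B']
variable [Algebra A A'] [Algebra B B'] [Algebra A B'] [IsScalarTower A A' B'] [IsScalarTower A B B']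
variable (P : Algebra.Presentation A B ι σ) (P' : Algebra.Presentation A' B' ι' σ')

theorem exists_relVal (g : Algebra.Generators.Hom P.toGenerators P'.toGenerators) (s : σ) :
    ∃ f : relMod P', jmap P' f = g.toExtensionHom.toRingHom (rel P s) := by
  have hm : g.toExtensionHom.toRingHom (rel P s) ∈ LinearMap.range (jmap P') := by
    rw [range_jmap]
    show algebraMap P'.toExtension.Ring B' _ = 0
    rw [g.toExtensionHom.algebraMap_toRingHom, algebraMap_rel, map_zero]
  exact hm

/-- A morphism of presentations exists over every square. -/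
def anyHom : PresHom P P' where
  hom := Algebra.Generators.defaultHom _ _
  relVal s := (exists_relVal P P' _ s).choose
  jmap_relVal s := (exists_relVal P P' _ s).choose_spec

variable {P P'}
variable {A'' : Type u''} {B'' : Type v''} {ι'' : Type w''} {σ'' : Type t''}
variable [CommRing A''] [CommRing B''] [Algebra A'' B'']
variable [Algebra A' A''] [Algebra B' B''] [Algebra A' B''] [IsScalarTower A' A'' B''] [IsScalarTower A' B' B'']
variable [Algebra A A''] [Algebra B B''] [Algebra A B''] [IsScalarTower A A'' B''] [IsScalarTower A B B'']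
variable [IsScalarTower A A' A''] [IsScalarTower B B' B'']
variable {P'' : Algebra.Presentation A'' B'' ι'' σ''}

theorem ringHom_var (g : PresHom P P') (i : ι) : g.ringHom (var P i) = g.hom.val i :=
  g.hom.toAlgHom_X i

theorem ringHom_comp_hom (h' : PresHom P' P'') (h : PresHom P P') (x : P.toExtension.Ring) :
    (h'.hom.comp h.hom).toExtensionHom.toRingHom x = h'.ringHom (h.ringHom x) := by
  refine DFunLike.congr_fun (ringHom_ext (f := (h'.hom.comp h.hom).toExtensionHom.toRingHom)
    (g := h'.ringHom.comp h.ringHom) (fun a => ?_) (fun i => ?_)) x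
  · rw [RingHom.comp_apply, ringHom_algebraMap, ringHom_algebraMap, ← IsScalarTower.algebraMap_apply A A' A'']
    exact (h'.hom.comp h.hom).toExtensionHom.toRingHom_algebraMap a
  · rw [RingHom.comp_apply, ringHom_var]
    exact ((h'.hom.comp h.hom).toAlgHom_X i).trans rfl

/-- Composition of morphisms of presentations. -/
def comp (h' : PresHom P' P'') (h : PresHom P P') : PresHom P P'' where
  hom := h'.hom.comp h.hom
  relVal s := h'.relModMap (h.relVal s)
  jmap_relVal s := by rw [h'.jmap_relModMap, h.jmap_relVal, ringHom_comp_hom]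

variable (h' : PresHom P' P'') (h : PresHom P P')

theorem comp_ringHom (x : P.toExtension.Ring) : (comp h' h).ringHom x = h'.ringHom (h.ringHom x) :=
  ringHom_comp_hom h' h x

theorem comp_relModMap (f : relMod P) : (comp h' h).relModMap f = h'.relModMap (h.relModMap f) := by
  induction f using Finsupp.induction_linear with
  | zero => simp
  | add f g hf hg => rw [map_add, map_add, map_add, hf, hg]
  | single s r =>
    rw [PresHom.relModMap_single, PresHom.relModMap_single, LinearMap.map_smulₛₗ, comp_ringHom]
    rfl

theorem comp_L0map (x : L0 P) : (comp h' h).L0map x = h'.L0map (h.L0map x) := by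
  have hx : x ∈ Submodule.span B (Set.range P.cotangentSpaceBasis) := by
    rw [Module.Basis.span_eq]; exact Submodule.mem_top
  induction hx using Submodule.span_induction with
  | mem y hy =>
    obtain ⟨i, rfl⟩ := hy
    rw [basis_eq]
    simp only [PresHom.L0map_apply, Algebra.Extension.CotangentSpace.map_tmul]
    rw [← IsScalarTower.algebraMap_apply B B' B'']
    exact congrArg (fun z => algebraMap B B'' 1 ⊗ₜ[P''.toExtension.Ring] KaehlerDifferential.D A'' P''.toExtension.Ring z)
      (ringHom_comp_hom h' h (var P i))
  | zero => simp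
  | add y z _ _ hy hz => rw [LinearMap.map_add, LinearMap.map_add, LinearMap.map_add, hy, hz]
  | smul r y _ hy =>
    rw [LinearMap.map_smulₛₗ, LinearMap.map_smulₛₗ, LinearMap.map_smulₛₗ, hy, IsScalarTower.algebraMap_apply B B' B'']

theorem comp_L1map (x : L1 P) : (comp h' h).L1map x = h'.L1map (h.L1map x) := by
  induction x using TensorProduct.induction_on with
  | zero => simp
  | add x y hx hy => rw [map_add, map_add, map_add, hx, hy]
  | tmul b f =>
    rw [PresHom.L1map_tmul, PresHom.L1map_tmul, PresHom.L1map_tmul, comp_relModMap,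
      IsScalarTower.algebraMap_apply B B' B'']

theorem comp_L2map (z : L2 P) : (comp h' h).L2map z = h'.L2map (h.L2map z) := by
  obtain ⟨q, rfl⟩ := mkL2_surjective P z
  rw [L2map_mkL2, L2map_mkL2, L2map_mkL2]
  exact congrArg (mkL2 P'') (Subtype.ext (comp_relModMap h' h (q : relMod P)))

variable (M : Type m) [AddCommGroup M] [Module B'' M] [Module B' M] [Module B M]
variable [IsScalarTower B' B'' M] [IsScalarTower B B' M] [IsScalarTower B B'' M]

theorem T0pull_comp (x : T0 P'' M) : (comp h' h).T0pull M x = h.T0pull M (h'.T0pull M x) :=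
  Subtype.ext (LinearMap.ext fun y => congrArg (x : L0 P'' →ₗ[B''] M) (comp_L0map h' h y))

theorem T1pull_comp (x : T1 P'' M) : (comp h' h).T1pull M x = h.T1pull M (h'.T1pull M x) := by
  induction x using Submodule.Quotient.induction_on with
  | H c =>
    exact congrArg Submodule.Quotient.mk
      (Subtype.ext (LinearMap.ext fun y => congrArg (c : L1 P'' →ₗ[B''] M) (comp_L1map h' h y)))

theorem T2pull_comp (x : T2 P'' M) : (comp h' h).T2pull M x = h.T2pull M (h'.T2pull M x) := by
  induction x using Submodule.Quotient.induction_on with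
  | H c => exact congrArg Submodule.Quotient.mk (LinearMap.ext fun y => congrArg c (comp_L2map h' h y))

/-- Any triangle of morphisms of presentations commutes on `Tⁱ`. -/
theorem pull_triangle (g : PresHom P P'') :
    (∀ x, g.T0pull M x = h.T0pull M (h'.T0pull M x)) ∧ (∀ x, g.T1pull M x = h.T1pull M (h'.T1pull M x)) ∧
      ∀ x, g.T2pull M x = h.T2pull M (h'.T2pull M x) :=
  ⟨fun x => (LinearMap.congr_fun (T0pull_eq g (comp h' h) M) x).trans (T0pull_comp h' h M x),
    fun x => (LinearMap.congr_fun (T1pull_eq g (comp h' h) M) x).trans (T1pull_comp h' h M x),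
    fun x => (LinearMap.congr_fun (T2pull_eq g (comp h' h) M) x).trans (T2pull_comp h' h M x)⟩

section Same

variable {A : Type u} {B : Type v} {ι : Type w} {σ : Type t} {ι' : Type w'} {σ' : Type t'}
variable [CommRing A] [CommRing B] [Algebra A B]
variable {P : Algebra.Presentation A B ι σ} {P' : Algebra.Presentation A B ι' σ'}
variable (M : Type m) [AddCommGroup M] [Module B M]

theorem id_relModMap (f : relMod P) : (PresHom.id P).relModMap f = f := by
  induction f using Finsupp.induction_linear with
  | zero => simp
  | add f g hf hg => rw [map_add, hf, hg]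
  | single s r =>
    rw [PresHom.relModMap_single]
    show (PresHom.id P).ringHom r • Finsupp.single s 1 = _
    rw [Finsupp.smul_single_one]
    congr 1
    exact DFunLike.congr_fun (ringHom_ext (f := (PresHom.id P).ringHom) (g := RingHom.id _)
      (fun a => ringHom_algebraMap _ a) (fun i => ringHom_var _ i)) r

theorem pull_id :
    (∀ x, (PresHom.id P).T0pull M x = x) ∧ (∀ x, (PresHom.id P).T1pull M x = x) ∧
      ∀ x, (PresHom.id P).T2pull M x = x := by
  refine ⟨fun x => Subtype.ext (P.cotangentSpaceBasis.ext fun i => ?_), fun x => ?_, fun x => ?_⟩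
  · refine congrArg (x : L0 P →ₗ[B] M) ?_
    rw [basis_eq]
    refine (Algebra.Extension.CotangentSpace.map_tmul _ _ _).trans ?_
    rw [Algebra.algebraMap_self_apply]
    congr 2
    exact ringHom_var (PresHom.id P) i
  · induction x using Submodule.Quotient.induction_on with
    | H c =>
      refine congrArg Submodule.Quotient.mk (Subtype.ext ((L1basis P).ext fun s => ?_))
      show (c : L1 P →ₗ[B] M) ((PresHom.id P).L1map (L1basis P s)) = _
      rw [L1basis_apply, PresHom.L1map_tmul, id_relModMap, Algebra.algebraMap_self_apply]
  · induction x using Submodule.Quotient.induction_on with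
    | H c =>
      refine congrArg Submodule.Quotient.mk (LinearMap.ext fun z => congrArg c ?_)
      obtain ⟨q, rfl⟩ := mkL2_surjective P z
      rw [L2map_mkL2]
      exact congrArg (mkL2 P) (Subtype.ext (id_relModMap (q : relMod P)))

set_option maxHeartbeats 1000000 in
/-- Comparison maps between two presentations of one algebra are bijective. -/
theorem pull_bijective (h : PresHom P P') :
    Function.Bijective (h.T0pull M) ∧ Function.Bijective (h.T1pull M) ∧ Function.Bijective (h.T2pull M) := by
  let k : PresHom P' P := anyHom P' P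
  obtain ⟨a0, a1, a2⟩ := pull_triangle (h' := k) (h := h) M (PresHom.id P)
  obtain ⟨b0, b1, b2⟩ := pull_triangle (h' := h) (h := k) M (PresHom.id P')
  obtain ⟨i0, i1, i2⟩ := pull_id (P := P) M
  obtain ⟨j0, j1, j2⟩ := pull_id (P := P') M
  exact ⟨Function.bijective_iff_has_inverse.2 ⟨k.T0pull M, fun x => (b0 x).symm.trans (j0 x),
      fun x => (a0 x).symm.trans (i0 x)⟩,
    Function.bijective_iff_has_inverse.2 ⟨k.T1pull M, fun x => (b1 x).symm.trans (j1 x),
      fun x => (a1 x).symm.trans (i1 x)⟩,
    Function.bijective_iff_has_inverse.2 ⟨k.T2pull M, fun x => (b2 x).symm.trans (j2 x),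
      fun x => (a2 x).symm.trans (i2 x)⟩⟩

variable (P P')

/-- `T¹` does not depend on the presentation. -/
def T1equiv : T1 P' M ≃ₗ[B] T1 P M :=
  LinearEquiv.ofBijective _ (pull_bijective M (anyHom P P')).2.1

/-- `T²` does not depend on the presentation. -/
def T2equiv : T2 P' M ≃ₗ[B] T2 P M :=
  LinearEquiv.ofBijective _ (pull_bijective M (anyHom P P')).2.2

end Same

end Groth.Agent.CotT
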