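import Groth.Agent.CotT.Regular
import Groth.Agent.CotT.Invariance
import Mathlib.RingTheory.Localization.Basic
import Mathlib.Algebra.MvPolynomial.Equiv

/-! The cotangent functor `T²` of a localization vanishes. -/

open TensorProduct

noncomputable section

namespace Groth.Agent.CotT

open _root_.CotT

universe u v w t m

variable {E : Type u} [CommRing E]

/-- Multiplication by `a X - 1` is injective modulo an extended ideal. -/
theorem mem_map_C_of_linear {R₀ : Type*} [CommRing R₀] (J : Ideal R₀) (a : R₀) (y : Polynomial R₀)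
    (h : (Polynomial.C a * Polynomial.X - 1) * y ∈ J.map Polynomial.C) : y ∈ J.map Polynomial.C := by
  rw [Ideal.mem_map_C_iff] at h ⊢
  intro n
  induction n with
  | zero =>
    have h0 := h 0
    rw [sub_mul, one_mul, Polynomial.coeff_sub, mul_assoc, Polynomial.coeff_C_mul, Polynomial.coeff_X_mul_zero,
      mul_zero, zero_sub, neg_mem_iff] at h0
    exact h0
  | succ n ih =>
    have h1 := h (n + 1)
    rw [sub_mul, one_mul, Polynomial.coeff_sub, mul_assoc, Polynomial.coeff_C_mul, Polynomial.coeff_X_mul] at h1
    have := sub_mem (Ideal.mul_mem_left _ a ih) h1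
    rwa [sub_sub_cancel] at this

theorem isWReg_loc {σ : Type*} (c : σ → E) {r : ℕ} (g : Fin r → σ) (hg : Function.Injective g) :
    IsWReg (fun i => MvPolynomial.C (c (g i)) * MvPolynomial.X (g i) - (1 : MvPolynomial σ E)) := by
  classical
  intro i x hx
  set s := g i
  let e : MvPolynomial σ E ≃ₐ[E] Polynomial (MvPolynomial {t // t ≠ s} E) :=
    (MvPolynomial.renameEquiv E (Equiv.optionSubtypeNe s).symm).trans (MvPolynomial.optionEquivLeft E _)
  have heX : e (MvPolynomial.X s) = Polynomial.X := by
    simp [e, MvPolynomial.optionEquivLeft_X_none]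
  have heX' : ∀ t (ht : t ≠ s), e (MvPolynomial.X t) = Polynomial.C (MvPolynomial.X ⟨t, ht⟩) := fun t ht => by
    simp [e, Equiv.optionSubtypeNe_symm_of_ne ht, MvPolynomial.optionEquivLeft_X_some]
  have heC : ∀ a : E, e (MvPolynomial.C a) = Polynomial.C (MvPolynomial.C a) := fun a => by
    rw [← MvPolynomial.algebraMap_eq, AlgEquiv.commutes]; rfl
  let b' : Fin r → MvPolynomial {t // t ≠ s} E := fun j =>
    if h : g j ≠ s then MvPolynomial.C (c (g j)) * MvPolynomial.X ⟨g j, h⟩ - 1 else 0
  have hI : (Ideal.span ((fun j => MvPolynomial.C (c (g j)) * MvPolynomial.X (g j) - (1 : MvPolynomial σ E)) ''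
      Set.Iio i)).map e.toRingEquiv.toRingHom = (Ideal.span (b' '' Set.Iio i)).map Polynomial.C := by
    rw [Ideal.map_span, Ideal.map_span, ← Set.image_comp, ← Set.image_comp]
    congr 1
    refine Set.image_congr fun j hj => ?_
    have hne : g j ≠ s := fun h => (ne_of_lt (Set.mem_Iio.1 hj)) (hg h)
    show e (MvPolynomial.C (c (g j)) * MvPolynomial.X (g j) - 1) = Polynomial.C (b' j)
    simp only [b', dif_pos hne]
    rw [map_sub, map_mul, map_one, heC, heX' _ hne, map_sub, map_mul, map_one]
  have h1 : e ((MvPolynomial.C (c s) * MvPolynomial.X s - 1) * x) ∈ (Ideal.span (b' '' Set.Iio i)).map Polynomial.C := by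
    rw [← hI]; exact Ideal.mem_map_of_mem e.toRingEquiv.toRingHom hx
  rw [map_mul, map_sub, map_mul, map_one, heC, heX] at h1
  have h2 := mem_map_C_of_linear _ _ _ h1
  rw [← hI] at h2
  obtain ⟨z, hz, hze⟩ := (Ideal.mem_map_iff_of_surjective _ e.surjective).1 h2
  rwa [← e.injective hze]

variable (S : Submonoid E) (E' : Type v) [CommRing E'] [Algebra E E'] [IsLocalization S E']

/-- The presentation of a localization by inverses. -/
def locPres : Algebra.Presentation E E' S S where
  toGenerators := Algebra.Generators.ofSurjective (fun s => IsLocalization.mk' E' (1 : E) s) fun y => by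
    obtain ⟨a, s, rfl⟩ := IsLocalization.exists_mk'_eq S y
    exact ⟨MvPolynomial.C a * MvPolynomial.X s, by
      rw [map_mul, MvPolynomial.aeval_C, MvPolynomial.aeval_X, IsLocalization.mul_mk'_eq_mk'_of_mul, mul_one]⟩
  relation := fun s => MvPolynomial.C (s : E) * MvPolynomial.X s - 1
  span_range_relation_eq_ker := by
    rw [Algebra.Generators.ker_eq_ker_aeval_val]
    set v : S → E' := fun s => IsLocalization.mk' E' (1 : E) s
    set J := Ideal.span (Set.range fun s : S => MvPolynomial.C (s : E) * MvPolynomial.X s - (1 : MvPolynomial S E))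
    show J = RingHom.ker (MvPolynomial.aeval v)
    have hle : J ≤ RingHom.ker (MvPolynomial.aeval v) := by
      refine Ideal.span_le.2 ?_
      rintro _ ⟨s, rfl⟩
      rw [SetLike.mem_coe, RingHom.mem_ker, map_sub, map_mul, MvPolynomial.aeval_C, MvPolynomial.aeval_X, map_one,
        IsLocalization.mul_mk'_eq_mk'_of_mul, mul_one, IsLocalization.mk'_self, sub_self]
    refine le_antisymm hle fun p hp => ?_
    have hinv : ∀ s : S, Ideal.Quotient.mk J (MvPolynomial.C (s : E)) * Ideal.Quotient.mk J (MvPolynomial.X s) = 1 :=
      fun s => by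
        rw [← map_mul, ← map_one (Ideal.Quotient.mk J), Ideal.Quotient.eq]
        exact Ideal.subset_span ⟨s, rfl⟩
    have hu : ∀ s : S, IsUnit (((Ideal.Quotient.mk J).comp MvPolynomial.C) (s : E)) := fun s =>
      IsUnit.of_mul_eq_one _ (hinv s)
    let g : E' →+* MvPolynomial S E ⧸ J := IsLocalization.lift hu
    have hgC : ∀ a, g (algebraMap E E' a) = Ideal.Quotient.mk J (MvPolynomial.C a) := fun a =>
      IsLocalization.lift_eq hu a
    have hg : g.comp (MvPolynomial.aeval v).toRingHom = Ideal.Quotient.mk J := by
      refine MvPolynomial.ringHom_ext (fun a => ?_) (fun s => ?_)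
      · show g (MvPolynomial.aeval v (MvPolynomial.C a)) = _
        rw [MvPolynomial.aeval_C, hgC]
      · show g (MvPolynomial.aeval v (MvPolynomial.X s)) = _
        rw [MvPolynomial.aeval_X]
        have h1 : algebraMap E E' (s : E) * v s = 1 := by
          rw [IsLocalization.mul_mk'_eq_mk'_of_mul, mul_one, IsLocalization.mk'_self]
        have h2 := congrArg g h1
        rw [map_mul, hgC, map_one] at h2
        exact (hu s).mul_left_cancel (h2.trans (hinv s).symm)
    refine Ideal.Quotient.eq_zero_iff_mem.1 ?_
    rw [← hg]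
    show g (MvPolynomial.aeval v p) = 0
    rw [RingHom.mem_ker.1 hp, map_zero]

theorem subsingleton_L2_locPres : Subsingleton (L2 (locPres S E')) :=
  subsingleton_L2 (locPres S E') fun q => by
    classical
    let P := locPres S E'
    let T := (q : relMod P).support
    let g : Fin T.card → S := fun i => (T.equivFin.symm i : S)
    have hg : Function.Injective g := Subtype.val_injective.comp T.equivFin.symm.injective
    let f : Fin T.card →₀ P.toExtension.Ring := Finsupp.comapDomain g (q : relMod P) hg.injOn
    have hf : Finsupp.mapDomain g f = (q : relMod P) :=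
      Finsupp.mapDomain_comapDomain g hg _ fun s hs => ⟨T.equivFin ⟨s, hs⟩, by simp [g]⟩
    have hq : Finsupp.linearCombination P.toExtension.Ring (rel P) (q : relMod P) = 0 := q.2
    rw [← hf, Finsupp.linearCombination_mapDomain] at hq
    have hb : IsWReg (rel P ∘ g) := isWReg_loc (fun s : S => (s : E)) g hg
    have := trivOf_map (rel P) g (relations_trivial _ hb f hq)
    rw [hf] at this
    exact this

theorem T2_localization {ι : Type w} {σ : Type t} (P : Algebra.Presentation E E' ι σ) (M : Type m) [AddCommGroup M]
    [Module E' M] (S : Submonoid E) [IsLocalization S E'] : Subsingleton (T2 P M) :=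
  have := subsingleton_T2 _ (subsingleton_L2_locPres S E') M
  (T2equiv (locPres S E') P M).toEquiv.subsingleton

end Groth.Agent.CotT
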