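import Groth.Agent.CotT.Invariance

/-! Elementary exactness properties of `T⁰, T¹, T²`. -/

open TensorProduct

noncomputable section

namespace Groth.Agent.CotT

open _root_.CotT

universe u v w t m m'

variable {A : Type u} {B : Type v} {ι : Type w} {σ : Type t}
variable [CommRing A] [CommRing B] [Algebra A B] (P : Algebra.Presentation A B ι σ)

theorem d2_mem_ker (z : L2 P) : toCot P (d2 P z) = 0 := LinearMap.congr_fun (toCot_comp_d2 P) z

theorem homToT1_mk {M : Type m} [AddCommGroup M] [Module B M] (φ : P.toExtension.Cotangent →ₗ[B] M)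
    (c : cocycles1 P M) (hc : (c : L1 P →ₗ[B] M) = φ ∘ₗ toCot P) : homToT1 P M φ = Submodule.Quotient.mk c := by
  refine congrArg Submodule.Quotient.mk (Subtype.ext ?_)
  rw [hc]
  rfl

theorem homToT1_surjective (M : Type m) [AddCommGroup M] [Module B M] : Function.Surjective (homToT1 P M) := by
  intro x
  induction x using Submodule.Quotient.induction_on with
  | H c =>
    obtain ⟨φ, hφ⟩ := exists_factor_toCot P (c := (c : L1 P →ₗ[B] M)) c.2
    exact ⟨φ, homToT1_mk P φ c hφ.symm⟩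

theorem homToT1_eq_zero {M : Type m} [AddCommGroup M] [Module B M] (φ : P.toExtension.Cotangent →ₗ[B] M) :
    homToT1 P M φ = 0 ↔ ∃ ψ : L0 P →ₗ[B] M, ψ ∘ₗ P.toExtension.cotangentComplex = φ := by
  rw [homToT1, LinearMap.comp_apply, Submodule.mkQ_apply, T1_mk_eq_zero]
  refine exists_congr fun ψ => ⟨fun h => LinearMap.ext fun y => ?_, fun h => by rw [d1, ← LinearMap.comp_assoc, h]; rfl⟩
  obtain ⟨x, rfl⟩ := toCot_surjective P y
  exact LinearMap.congr_fun h x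

theorem exists_lift_basis {X : Type*} [AddCommGroup X] [Module B X] {κ : Type*} (b : Module.Basis κ B X)
    {M : Type m} {N : Type m'} [AddCommGroup M] [Module B M] [AddCommGroup N] [Module B N] {g : M →ₗ[B] N}
    (hg : Function.Surjective g) (c : X →ₗ[B] N) : ∃ d : X →ₗ[B] M, g ∘ₗ d = c := by
  choose f hf using fun i => hg (c (b i))
  exact ⟨b.constr B f, b.ext fun i => by rw [LinearMap.comp_apply, Module.Basis.constr_basis, hf]⟩

theorem exists_lift_ker {X : Type*} [AddCommGroup X] [Module B X]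
    {M' : Type*} {M : Type m} {N : Type m'} [AddCommGroup M'] [Module B M'] [AddCommGroup M] [Module B M]
    [AddCommGroup N] [Module B N] {f : M' →ₗ[B] M} {g : M →ₗ[B] N} (hf : Function.Injective f)
    (hfg : Function.Exact f g) (c : X →ₗ[B] M) (hc : g ∘ₗ c = 0) : ∃ d : X →ₗ[B] M', f ∘ₗ d = c := by
  have hmem : ∀ x, c x ∈ LinearMap.range f := fun x => (hfg (c x)).1 (LinearMap.congr_fun hc x)
  refine ⟨(LinearEquiv.ofInjective f hf).symm.toLinearMap ∘ₗ c.codRestrict _ hmem, LinearMap.ext fun x => ?_⟩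
  exact congrArg Subtype.val ((LinearEquiv.ofInjective f hf).apply_symm_apply ⟨c x, hmem x⟩)

section Generic

variable {X Y Z : Type*} [AddCommGroup X] [Module B X] [AddCommGroup Y] [Module B Y] [AddCommGroup Z] [Module B Z]
  {M' M M'' : Type m} [AddCommGroup M'] [Module B M'] [AddCommGroup M] [Module B M] [AddCommGroup M''] [Module B M'']
  {f : M' →ₗ[B] M} {g : M →ₗ[B] M''} (u : X →ₗ[B] Y)

theorem gen_ker {ψ : Y →ₗ[B] M} {c : X →ₗ[B] M} (h : (g ∘ₗ ψ) ∘ₗ u = g ∘ₗ c) : g ∘ₗ (c - ψ ∘ₗ u) = 0 := by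
  rw [LinearMap.comp_sub, ← LinearMap.comp_assoc, h, sub_self]

theorem gen_neg {ψ : Y →ₗ[B] M} {c : X →ₗ[B] M} {d : X →ₗ[B] M'} (h : f ∘ₗ d = c - ψ ∘ₗ u) :
    (-ψ) ∘ₗ u = f ∘ₗ d - c := by
  rw [h, sub_sub_cancel_left]; rfl

theorem gen_key (hf : Function.Injective f) {θ : Y →ₗ[B] M'} {ψ ψ₀ : Y →ₗ[B] M} {d d₀ : X →ₗ[B] M'}
    (hθ : f ∘ₗ θ = ψ - ψ₀) (hd : f ∘ₗ d = ψ ∘ₗ u) (hd₀ : f ∘ₗ d₀ = ψ₀ ∘ₗ u) : θ ∘ₗ u = d - d₀ := by
  refine LinearMap.ext fun z => hf ?_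
  have e1 : f (θ (u z)) = ψ (u z) - ψ₀ (u z) := LinearMap.congr_fun hθ (u z)
  have e2 : f (d z) = ψ (u z) := LinearMap.congr_fun hd z
  have e3 : f (d₀ z) = ψ₀ (u z) := LinearMap.congr_fun hd₀ z
  rw [LinearMap.comp_apply, LinearMap.sub_apply, LinearMap.map_sub, e1, e2, e3]

theorem gen_add {ψ ψ₀ : Y →ₗ[B] M} {d d₀ : X →ₗ[B] M'} (hd : f ∘ₗ d = ψ ∘ₗ u) (hd₀ : f ∘ₗ d₀ = ψ₀ ∘ₗ u) :
    f ∘ₗ (d + d₀) = (ψ + ψ₀) ∘ₗ u := by
  rw [LinearMap.comp_add, hd, hd₀, LinearMap.add_comp]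

theorem gen_smul {ψ : Y →ₗ[B] M} {d : X →ₗ[B] M'} (hd : f ∘ₗ d = ψ ∘ₗ u) (b : B) : f ∘ₗ (b • d) = (b • ψ) ∘ₗ u := by
  rw [LinearMap.comp_smul, hd, LinearMap.smul_comp]

theorem gen_corr {ψ : Y →ₗ[B] M} {d : X →ₗ[B] M'} {θ : Y →ₗ[B] M'} (hd : f ∘ₗ d = ψ ∘ₗ u) (hθ : θ ∘ₗ u = d) :
    (ψ - f ∘ₗ θ) ∘ₗ u = 0 := by
  rw [LinearMap.sub_comp, LinearMap.comp_assoc, hθ, hd, sub_self]

theorem gen_g (hfg : Function.Exact f g) {ψ : Y →ₗ[B] M} (θ : Y →ₗ[B] M') : g ∘ₗ (ψ - f ∘ₗ θ) = g ∘ₗ ψ := by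
  rw [LinearMap.comp_sub, ← LinearMap.comp_assoc, hfg.linearMap_comp_eq_zero, LinearMap.zero_comp, sub_zero]

theorem gen_gcomp (hfg : Function.Exact f g) {ψ : Y →ₗ[B] M} {d : X →ₗ[B] M'} (hd : f ∘ₗ d = ψ ∘ₗ u) :
    (g ∘ₗ ψ) ∘ₗ u = 0 := by
  rw [LinearMap.comp_assoc, ← hd, ← LinearMap.comp_assoc, hfg.linearMap_comp_eq_zero, LinearMap.zero_comp]

theorem gen_gf (hfg : Function.Exact f g) (d : X →ₗ[B] M') : g ∘ₗ (f ∘ₗ d) = 0 := by
  rw [← LinearMap.comp_assoc, hfg.linearMap_comp_eq_zero, LinearMap.zero_comp]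

theorem gen_zero (f : M' →ₗ[B] M) {v : Y →ₗ[B] Z} (h : v ∘ₗ u = 0) (θ : Z →ₗ[B] M) :
    f ∘ₗ (0 : X →ₗ[B] M') = (θ ∘ₗ v) ∘ₗ u := by
  rw [LinearMap.comp_zero, LinearMap.comp_assoc, h, LinearMap.comp_zero]

theorem gen_cocycle (hf : Function.Injective f) {v : Y →ₗ[B] Z} (h : v ∘ₗ u = 0) {ψ : Z →ₗ[B] M} {d : Y →ₗ[B] M'}
    (hd : f ∘ₗ d = ψ ∘ₗ v) : d ∘ₗ u = 0 := by
  refine LinearMap.ext fun z => hf ?_
  have e1 : f (d (u z)) = ψ (v (u z)) := LinearMap.congr_fun hd (u z)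
  have e2 : v (u z) = 0 := LinearMap.congr_fun h z
  rw [LinearMap.comp_apply, LinearMap.zero_apply, LinearMap.map_zero, e1, e2, LinearMap.map_zero]

end Generic

section Long

variable {M' M M'' : Type m} [AddCommGroup M'] [Module B M'] [AddCommGroup M] [Module B M] [AddCommGroup M'']
  [Module B M''] {f : M' →ₗ[B] M} {g : M →ₗ[B] M''} (hf : Function.Injective f) (hg : Function.Surjective g)
  (hfg : Function.Exact f g)
include hf hg hfg

theorem T0map_exact : Function.Injective (T0map P f) ∧ Function.Exact (T0map P f) (T0map P g) := by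
  have hcomp : g ∘ₗ f = 0 := hfg.linearMap_comp_eq_zero
  refine ⟨fun x y h => Subtype.ext (LinearMap.ext fun z => hf ?_), fun x => ⟨fun h => ?_, ?_⟩⟩
  · exact LinearMap.congr_fun (congrArg Subtype.val h) z
  · obtain ⟨d, hd⟩ := exists_lift_ker hf hfg (x : L0 P →ₗ[B] M) (congrArg Subtype.val h)
    refine ⟨⟨d, LinearMap.ext fun z => hf ?_⟩, Subtype.ext hd⟩
    show f ((d ∘ₗ d1 P) z) = f 0
    rw [map_zero, LinearMap.comp_apply, ← LinearMap.comp_apply f d, hd]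
    exact LinearMap.congr_fun x.2 z
  · rintro ⟨y, rfl⟩
    exact Subtype.ext (LinearMap.ext fun z => LinearMap.congr_fun hcomp _)

theorem T1map_exact : Function.Exact (T1map P f) (T1map P g) := by
  intro x
  induction x using Submodule.Quotient.induction_on with
  | H c =>
    constructor
    · intro h
      obtain ⟨ψ, hψ⟩ := (T1_mk_eq_zero P (cocycles1Map P g c)).1 h
      obtain ⟨ψ', rfl⟩ := exists_lift_basis P.cotangentSpaceBasis hg ψ
      obtain ⟨d, hd⟩ := exists_lift_ker hf hfg ((c : L1 P →ₗ[B] M) - ψ' ∘ₗ d1 P) (gen_ker (d1 P) hψ)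
      have hdz : d ∘ₗ d2 P = 0 := LinearMap.ext fun z => hf (by
        have e1 : f (d (d2 P z)) = (c : L1 P →ₗ[B] M) (d2 P z) - ψ' (d1 P (d2 P z)) := LinearMap.congr_fun hd (d2 P z)
        have e2 : (c : L1 P →ₗ[B] M) (d2 P z) = 0 := LinearMap.congr_fun c.2 z
        have e3 : d1 P (d2 P z) = 0 := LinearMap.congr_fun (d1_comp_d2 P) z
        rw [LinearMap.comp_apply, LinearMap.zero_apply, LinearMap.map_zero, e1, e2, e3, LinearMap.map_zero, sub_zero])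
      exact ⟨Submodule.Quotient.mk ⟨d, hdz⟩,
        (Submodule.Quotient.eq _).2 ⟨-ψ', gen_neg (d1 P) hd⟩⟩
    · rintro ⟨y, hy⟩
      rw [← hy]
      induction y using Submodule.Quotient.induction_on with
      | H c' => exact (T1_mk_eq_zero P _).2 ⟨0, (LinearMap.zero_comp _).trans (gen_gf hfg _).symm⟩

set_option maxHeartbeats 1600000 in
theorem T2map_exact : Function.Exact (T2map P f) (T2map P g) := by
  intro x
  induction x using Submodule.Quotient.induction_on with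
  | H c =>
    constructor
    · intro h
      have h' : (Submodule.Quotient.mk (g ∘ₗ c) : T2 P M'') = 0 := h
      obtain ⟨ψ, hψ⟩ := (T2_mk_eq_zero P (g ∘ₗ c)).1 h'
      obtain ⟨ψ', hψ'⟩ := exists_lift_basis (L1basis P) hg ψ
      rw [← hψ'] at hψ
      have hker : g ∘ₗ (c - ψ' ∘ₗ d2 P) = 0 := gen_ker (d2 P) hψ
      obtain ⟨d, hd⟩ := exists_lift_ker hf hfg (c - ψ' ∘ₗ d2 P) hker
      exact ⟨Submodule.Quotient.mk d, (Submodule.Quotient.eq _).2 ⟨-ψ', gen_neg (d2 P) hd⟩⟩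
    · rintro ⟨y, hy⟩
      rw [← hy]
      induction y using Submodule.Quotient.induction_on with
      | H c' => exact (T2_mk_eq_zero P _).2 ⟨0, (LinearMap.zero_comp _).trans (gen_gf hfg _).symm⟩

theorem exists_delta_zero : ∃ δ : T0 P M'' →ₗ[B] T1 P M',
    Function.Exact (T0map P g) δ ∧ Function.Exact δ (T1map P f) := by
  classical
  have hlift : ∀ x : T0 P M'', ∃ (ψ : L0 P →ₗ[B] M) (d : cocycles1 P M'),
      g ∘ₗ ψ = (x : L0 P →ₗ[B] M'') ∧ f ∘ₗ (d : L1 P →ₗ[B] M') = ψ ∘ₗ d1 P := fun x => by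
    obtain ⟨ψ, hψ⟩ := exists_lift_basis P.cotangentSpaceBasis hg (x : L0 P →ₗ[B] M'')
    obtain ⟨d, hd⟩ := exists_lift_ker hf hfg (ψ ∘ₗ d1 P) (by rw [← LinearMap.comp_assoc, hψ]; exact x.2)
    exact ⟨ψ, ⟨d, gen_cocycle (d2 P) hf (d1_comp_d2 P) hd⟩, hψ, hd⟩
  choose lift0 bd hl hbd using hlift
  have key : ∀ (x : T0 P M'') (ψ : L0 P →ₗ[B] M) (d : cocycles1 P M'), g ∘ₗ ψ = (x : L0 P →ₗ[B] M'') →
      f ∘ₗ (d : L1 P →ₗ[B] M') = ψ ∘ₗ d1 P → (Submodule.Quotient.mk d : T1 P M') = Submodule.Quotient.mk (bd x) := by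
    intro x ψ d hψ hd
    obtain ⟨θ, hθ⟩ := exists_lift_ker hf hfg (ψ - lift0 x) (by rw [LinearMap.comp_sub, hψ, hl, sub_self])
    exact (Submodule.Quotient.eq _).2 ⟨θ, gen_key (d1 P) hf hθ hd (hbd x)⟩
  let δ : T0 P M'' →ₗ[B] T1 P M' :=
    { toFun := fun x => Submodule.Quotient.mk (bd x)
      map_add' := fun x y => ((key (x + y) (lift0 x + lift0 y) (bd x + bd y) (by rw [LinearMap.comp_add, hl, hl]; rfl)
        (gen_add (d1 P) (hbd x) (hbd y))).symm.trans (Submodule.Quotient.mk_add _))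
      map_smul' := fun b x => ((key (b • x) (b • lift0 x) (b • bd x) (by rw [LinearMap.comp_smul, hl]; rfl)
        (gen_smul (d1 P) (hbd x) b)).symm.trans (Submodule.Quotient.mk_smul _ b (bd x))) }
  refine ⟨δ, fun x => ⟨fun h => ?_, ?_⟩, fun y => ⟨fun h => ?_, ?_⟩⟩
  · obtain ⟨θ, hθ⟩ := (T1_mk_eq_zero P (bd x)).1 h
    exact ⟨⟨lift0 x - f ∘ₗ θ, gen_corr (d1 P) (hbd x) hθ⟩, Subtype.ext ((gen_g hfg θ).trans (hl x))⟩
  · rintro ⟨y, rfl⟩
    have hy : f ∘ₗ ((0 : cocycles1 P M') : L1 P →ₗ[B] M') = (y : L0 P →ₗ[B] M) ∘ₗ d1 P := by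
      rw [Submodule.coe_zero, LinearMap.comp_zero]
      exact y.2.symm
    exact (key _ (y : L0 P →ₗ[B] M) 0 rfl hy).symm
  · induction y using Submodule.Quotient.induction_on with
    | H d =>
      obtain ⟨ψ, hψ⟩ := (T1_mk_eq_zero P (cocycles1Map P f d)).1 h
      exact ⟨⟨g ∘ₗ ψ, gen_gcomp (d1 P) hfg hψ.symm⟩, (key _ ψ d rfl hψ.symm).symm⟩
  · rintro ⟨x, rfl⟩
    exact (T1_mk_eq_zero P (cocycles1Map P f (bd x))).2 ⟨lift0 x, (hbd x).symm⟩

set_option maxHeartbeats 1600000 in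
theorem exists_delta_one : ∃ δ : T1 P M'' →ₗ[B] T2 P M',
    Function.Exact (T1map P g) δ ∧ Function.Exact δ (T2map P f) := by
  classical
  have hlift : ∀ c : cocycles1 P M'', ∃ (ψ : L1 P →ₗ[B] M) (d : L2 P →ₗ[B] M'),
      g ∘ₗ ψ = (c : L1 P →ₗ[B] M'') ∧ f ∘ₗ d = ψ ∘ₗ d2 P := fun c => by
    obtain ⟨ψ, hψ⟩ := exists_lift_basis (L1basis P) hg (c : L1 P →ₗ[B] M'')
    obtain ⟨d, hd⟩ := exists_lift_ker hf hfg (ψ ∘ₗ d2 P) (by rw [← LinearMap.comp_assoc, hψ]; exact c.2)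
    exact ⟨ψ, d, hψ, hd⟩
  choose lift1 bd hl hbd using hlift
  have key : ∀ (c : cocycles1 P M'') (ψ : L1 P →ₗ[B] M) (d : L2 P →ₗ[B] M'), g ∘ₗ ψ = (c : L1 P →ₗ[B] M'') →
      f ∘ₗ d = ψ ∘ₗ d2 P → (Submodule.Quotient.mk d : T2 P M') = Submodule.Quotient.mk (bd c) := by
    intro c ψ d hψ hd
    obtain ⟨θ, hθ⟩ := exists_lift_ker hf hfg (ψ - lift1 c) (by rw [LinearMap.comp_sub, hψ, hl, sub_self])
    exact (Submodule.Quotient.eq _).2 ⟨θ, gen_key (d2 P) hf hθ hd (hbd c)⟩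
  let δ' : cocycles1 P M'' →ₗ[B] T2 P M' :=
    { toFun := fun c => Submodule.Quotient.mk (bd c)
      map_add' := fun x y => ((key (x + y) (lift1 x + lift1 y) (bd x + bd y) (by rw [LinearMap.comp_add, hl, hl]; rfl)
        (gen_add (d2 P) (hbd x) (hbd y))).symm.trans (Submodule.Quotient.mk_add _))
      map_smul' := fun b x => ((key (b • x) (b • lift1 x) (b • bd x) (by rw [LinearMap.comp_smul, hl]; rfl)
        (gen_smul (d2 P) (hbd x) b)).symm.trans (Submodule.Quotient.mk_smul _ b (bd x))) }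
  have hle : coboundaries1 P M'' ≤ LinearMap.ker δ' := by
    rintro c ⟨θ, hθ⟩
    obtain ⟨θ', rfl⟩ := exists_lift_basis P.cotangentSpaceBasis hg θ
    exact (key c (θ' ∘ₗ d1 P) 0 ((LinearMap.comp_assoc _ _ _).symm.trans hθ)
      (gen_zero (d2 P) f (d1_comp_d2 P) θ')).symm
  refine ⟨(coboundaries1 P M'').liftQ δ' hle, fun x => ?_, fun y => ?_⟩
  · induction x using Submodule.Quotient.induction_on with
    | H c =>
      constructor
      · intro h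
        obtain ⟨θ, hθ⟩ := (T2_mk_eq_zero P (bd c)).1 h
        exact ⟨Submodule.Quotient.mk ⟨lift1 c - f ∘ₗ θ, gen_corr (d2 P) (hbd c) hθ⟩,
          congrArg Submodule.Quotient.mk (Subtype.ext ((gen_g hfg θ).trans (hl c)))⟩
      · rintro ⟨y, hy⟩
        rw [← hy]
        induction y using Submodule.Quotient.induction_on with
        | H c' =>
          exact (key (cocycles1Map P g c') (c' : L1 P →ₗ[B] M) 0 rfl ((LinearMap.comp_zero _).trans c'.2.symm)).symm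
  · induction y using Submodule.Quotient.induction_on with
    | H d =>
      constructor
      · intro h
        have h' : (Submodule.Quotient.mk (f ∘ₗ d) : T2 P M) = 0 := h
        obtain ⟨ψ, hψ⟩ := (T2_mk_eq_zero P (f ∘ₗ d)).1 h'
        have hz : (g ∘ₗ ψ) ∘ₗ d2 P = 0 := gen_gcomp (d2 P) hfg hψ.symm
        exact ⟨Submodule.Quotient.mk ⟨g ∘ₗ ψ, hz⟩, (key ⟨g ∘ₗ ψ, hz⟩ ψ d rfl hψ.symm).symm⟩
      · rintro ⟨x, hx⟩
        rw [← hx]
        induction x using Submodule.Quotient.induction_on with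
        | H c => exact (T2_mk_eq_zero P (f ∘ₗ bd c)).2 ⟨lift1 c, (hbd c).symm⟩

end Long

end Groth.Agent.CotT
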