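import Groth.Agent.CotT.Tower
import Groth.Agent.CotT.Exact

/-! The nine-term sequence of `A → B → C`. -/

open TensorProduct

noncomputable section

namespace Groth.Agent.CotT

open _root_.CotT

set_option maxHeartbeats 1600000

universe u v v₂ w t w' t' m


variable {A : Type u} {B : Type v} {C : Type v₂} {ι : Type w} {σ : Type t} {ι' : Type w'} {σ' : Type t'}
variable [CommRing A] [CommRing B] [CommRing C] [Algebra A B] [Algebra B C] [Algebra A C] [IsScalarTower A B C]
variable (Q : Algebra.Presentation B C ι' σ') (P : Algebra.Presentation A B ι σ)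

theorem inH_L1map (s : σ) : (inH Q P).L1map (L1basis P s) = L1basis (Q.comp P) (Sum.inr s) := by
  rw [L1basis_apply, L1basis_apply, PresHom.L1map_tmul, map_one, PresHom.relModMap_single, map_one, one_smul]
  rfl

theorem outH_L1map_inl (s : σ') : (outH Q P).L1map (L1basis (Q.comp P) (Sum.inl s)) = L1basis Q s := by
  rw [L1basis_apply, L1basis_apply, PresHom.L1map_tmul, map_one, PresHom.relModMap_single, map_one, one_smul]
  rfl

theorem outH_L1map_inr (s : σ) : (outH Q P).L1map (L1basis (Q.comp P) (Sum.inr s)) = 0 := by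
  rw [L1basis_apply, PresHom.L1map_tmul, PresHom.relModMap_single, map_one, map_one, one_smul]
  show (1 : C) ⊗ₜ (0 : relMod Q) = 0
  rw [tmul_zero]

theorem L0map_var {A' B' : Type*} [CommRing A'] [CommRing B'] [Algebra A' B'] [Algebra A A'] [Algebra B B']
    [Algebra A B'] [IsScalarTower A A' B'] [IsScalarTower A B B'] {κ ρ : Type*}
    {P' : Algebra.Presentation A' B' κ ρ} (g : PresHom P P') (i : ι) :
    g.L0map (P.cotangentSpaceBasis i) =
      ((1 : B') ⊗ₜ KaehlerDifferential.D A' P'.toExtension.Ring (g.ringHom (var P i)) : L0 P') := by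
  rw [basis_eq, PresHom.L0map_apply]
  refine (Algebra.Extension.CotangentSpace.map_tmul _ _ _).trans ?_
  rw [map_one]
  rfl

theorem inH_L0map (i : ι) : (inH Q P).L0map (P.cotangentSpaceBasis i) =
    (Q.comp P).cotangentSpaceBasis (Sum.inr i) := by
  rw [L0map_var, basis_eq, ringHom_var]
  rfl

theorem outH_L0map_inl (i : ι') : (outH Q P).L0map ((Q.comp P).cotangentSpaceBasis (Sum.inl i)) =
    Q.cotangentSpaceBasis i := by
  rw [L0map_var, basis_eq, ringHom_var]
  rfl

theorem outH_L0map_inr (i : ι) : (outH Q P).L0map ((Q.comp P).cotangentSpaceBasis (Sum.inr i)) = 0 := by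
  rw [L0map_var, ringHom_var]
  show ((1 : C) ⊗ₜ KaehlerDifferential.D B Q.toExtension.Ring (algebraMap B Q.toExtension.Ring (P.val i)) : L0 Q) = 0
  rw [Derivation.map_algebraMap, tmul_zero]

variable (M : Type m) [AddCommGroup M] [Module C M] [Module B M] [IsScalarTower B C M]

/-- Extension of a cochain on `P` to the composite presentation. -/
def ext0 : (L0 P →ₗ[B] M) →+ (L0 (Q.comp P) →ₗ[C] M) where
  toFun φ := (Q.comp P).cotangentSpaceBasis.constr C (Sum.elim 0 fun i => φ (P.cotangentSpaceBasis i))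
  map_zero' := (Q.comp P).cotangentSpaceBasis.ext fun x => by cases x <;> simp
  map_add' φ ψ := (Q.comp P).cotangentSpaceBasis.ext fun x => by cases x <;> simp

/-- Extension of a cochain on `P` to the composite presentation. -/
def ext1 : (L1 P →ₗ[B] M) →+ (L1 (Q.comp P) →ₗ[C] M) where
  toFun φ := (L1basis (Q.comp P)).constr C (Sum.elim 0 fun i => φ (L1basis P i))
  map_zero' := (L1basis (Q.comp P)).ext fun x => by cases x <;> simp [-L1basis_apply]
  map_add' φ ψ := (L1basis (Q.comp P)).ext fun x => by cases x <;> simp [-L1basis_apply]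

theorem pull0_ext0 (φ : L0 P →ₗ[B] M) : (inH Q P).pull0 M (ext0 Q P M φ) = φ :=
  P.cotangentSpaceBasis.ext fun i => by
    rw [PresHom.pull0_apply, inH_L0map]
    exact Module.Basis.constr_basis _ _ _ _

theorem pull1_ext1 (φ : L1 P →ₗ[B] M) : (inH Q P).pull1 M (ext1 Q P M φ) = φ :=
  (L1basis P).ext fun i => by
    rw [PresHom.pull1_apply, inH_L1map]
    exact Module.Basis.constr_basis _ _ _ _

/-- Retraction onto cochains of `Q`. -/
def ret0 (c : L0 (Q.comp P) →ₗ[C] M) : L0 Q →ₗ[C] M :=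
  Q.cotangentSpaceBasis.constr C fun i => c ((Q.comp P).cotangentSpaceBasis (Sum.inl i))

/-- Retraction onto cochains of `Q`. -/
def ret1 : (L1 (Q.comp P) →ₗ[C] M) →+ (L1 Q →ₗ[C] M) where
  toFun c := (L1basis Q).constr C fun i => c (L1basis (Q.comp P) (Sum.inl i))
  map_zero' := (L1basis Q).ext fun x => by simp [-L1basis_apply]
  map_add' φ ψ := (L1basis Q).ext fun x => by simp [-L1basis_apply]

theorem pull0_ret0 {c : L0 (Q.comp P) →ₗ[C] M} (hc : (inH Q P).pull0 M c = 0) :
    (outH Q P).pull0 M (ret0 Q P M c) = c :=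
  (Q.comp P).cotangentSpaceBasis.ext fun x => by
    cases x with
    | inl i => rw [PresHom.pull0_apply, outH_L0map_inl, ret0, Module.Basis.constr_basis]
    | inr i =>
      rw [PresHom.pull0_apply, outH_L0map_inr, map_zero, ← inH_L0map, ← PresHom.pull0_apply (inH Q P) M, hc]
      rfl

theorem pull1_ret1 {c : L1 (Q.comp P) →ₗ[C] M} (hc : (inH Q P).pull1 M c = 0) :
    (outH Q P).pull1 M (ret1 Q P M c) = c :=
  (L1basis (Q.comp P)).ext fun x => by
    cases x with
    | inl i =>
      rw [PresHom.pull1_apply, outH_L1map_inl]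
      exact Module.Basis.constr_basis _ _ _ _
    | inr i =>
      rw [PresHom.pull1_apply, outH_L1map_inr, map_zero, ← inH_L1map, ← PresHom.pull1_apply (inH Q P) M, hc]
      rfl

theorem out0_injective : Function.Injective ((outH Q P).pull0 M) := fun x y h =>
  Q.cotangentSpaceBasis.ext fun i => by
    rw [← outH_L0map_inl Q P]; exact LinearMap.congr_fun h _

theorem out1_injective : Function.Injective ((outH Q P).pull1 M) := fun x y h =>
  (L1basis Q).ext fun i => by
    rw [← outH_L1map_inl Q P]; exact LinearMap.congr_fun h _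

theorem out2_injective : Function.Injective ((outH Q P).pull2 M) := fun x y h => LinearMap.ext fun z => by
  obtain ⟨z', rfl⟩ := outH_L2map_surjective Q P z
  exact LinearMap.congr_fun h z'

theorem in_out0 (y : L0 Q →ₗ[C] M) : (inH Q P).pull0 M ((outH Q P).pull0 M y) = 0 :=
  P.cotangentSpaceBasis.ext fun i => by
    rw [PresHom.pull0_apply, inH_L0map, PresHom.pull0_apply, outH_L0map_inr, map_zero]; rfl

theorem in_out1 (y : L1 Q →ₗ[C] M) : (inH Q P).pull1 M ((outH Q P).pull1 M y) = 0 :=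
  (L1basis P).ext fun i => by
    rw [PresHom.pull1_apply, inH_L1map, PresHom.pull1_apply, outH_L1map_inr, map_zero]; rfl

theorem out_in_L2map (z : L2 P) : (outH Q P).L2map ((inH Q P).L2map z) = 0 := by
  obtain ⟨q, rfl⟩ := mkL2_surjective P z
  have e : (outH Q P).relKerMap ((inH Q P).relKerMap q) = 0 :=
    Subtype.ext (by
      show (outH Q P).relModMap ((inH Q P).relModMap (q : relMod P)) = 0
      rw [inH_relModMap, outH_inrMap])
  rw [L2map_mkL2, L2map_mkL2, e, map_zero]

theorem in_out2 (y : L2 Q →ₗ[C] M) : (inH Q P).pull2 M ((outH Q P).pull2 M y) = 0 :=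
  LinearMap.ext fun z => by rw [PresHom.pull2_apply, PresHom.pull2_apply, out_in_L2map, map_zero]; rfl

theorem exists_out2 {c : L2 (Q.comp P) →ₗ[C] M} (hc : (inH Q P).pull2 M c = 0) :
    ∃ y, (outH Q P).pull2 M y = c := by
  let o : L2 (Q.comp P) →ₗ[C] L2 Q :=
    { toFun := (outH Q P).L2map
      map_add' := (outH Q P).L2map.map_add
      map_smul' := fun b z => by rw [LinearMap.map_smulₛₗ, Algebra.algebraMap_self_apply, RingHom.id_apply] }
  have ho : Function.Surjective o := outH_L2map_surjective Q P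
  have hle : LinearMap.ker o ≤ LinearMap.ker c := fun z hz => by
    have hz' : (outH Q P).L2map z = 0 := hz
    refine Submodule.span_le.2 ?_ (ker_outH_L2map Q P hz')
    rintro _ ⟨x, rfl⟩
    exact LinearMap.congr_fun hc x
  let e := LinearMap.quotKerEquivOfSurjective o ho
  refine ⟨((LinearMap.ker o).liftQ c hle).comp e.symm.toLinearMap, LinearMap.ext fun z => ?_⟩
  have he : e.symm (o z) = Submodule.Quotient.mk z := by rw [LinearEquiv.symm_apply_eq]; rfl
  show ((LinearMap.ker o).liftQ c hle) (e.symm (o z)) = c z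
  rw [he]
  rfl

/-- A cochain on `P` with cocycle condition, pushed to `Q`. -/
def dl0 (x : T0 P M) : L1 Q →ₗ[C] M := ret1 Q P M (d1Star (Q.comp P) M (ext0 Q P M (x : L0 P →ₗ[B] M)))

theorem dl0_spec (x : T0 P M) :
    (outH Q P).pull1 M (dl0 Q P M x) = d1Star (Q.comp P) M (ext0 Q P M (x : L0 P →ₗ[B] M)) :=
  pull1_ret1 Q P M (by rw [PresHom.pull1_d1Star, pull0_ext0]; exact x.2)

theorem d2_d1 {A₁ B₁ : Type*} [CommRing A₁] [CommRing B₁] [Algebra A₁ B₁] {κ ρ : Type*}
    (R : Algebra.Presentation A₁ B₁ κ ρ) {N : Type*} [AddCommGroup N] [Module B₁ N] (ψ : L0 R →ₗ[B₁] N) :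
    d2Star R N (d1Star R N ψ) = 0 := LinearMap.congr_fun (d2Star_comp_d1Star R N) ψ

theorem dl0_cocycle (x : T0 P M) : d2Star Q M (dl0 Q P M x) = 0 :=
  out2_injective Q P M (by rw [PresHom.pull2_d2Star, dl0_spec, d2_d1, LinearMap.map_zero])

/-- The connecting map in degree `0`. -/
def delta0 : T0 P M →+ T1 Q M :=
  AddMonoidHom.mk' (fun x => Submodule.Quotient.mk ⟨dl0 Q P M x, dl0_cocycle Q P M x⟩) fun x y => by
    rw [← Submodule.Quotient.mk_add]
    refine congrArg Submodule.Quotient.mk (Subtype.ext ?_)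
    show dl0 Q P M (x + y) = dl0 Q P M x + dl0 Q P M y
    simp only [dl0, Submodule.coe_add, map_add]

theorem T0_left : Function.Injective ((outH Q P).T0pull M) := fun x y h =>
  Subtype.ext (out0_injective Q P M (congrArg Subtype.val h))

theorem exact_T0T : Function.Exact ((outH Q P).T0pull M) ((inH Q P).T0pull M) := by
  refine fun x => ⟨fun h => ?_, ?_⟩
  · have h' : (inH Q P).pull0 M (x : L0 (Q.comp P) →ₗ[C] M) = 0 := congrArg Subtype.val h
    refine ⟨⟨ret0 Q P M x, out1_injective Q P M ?_⟩, Subtype.ext (pull0_ret0 Q P M h')⟩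
    rw [PresHom.pull1_d1Star, pull0_ret0 Q P M h', LinearMap.map_zero]
    exact x.2
  · rintro ⟨y, rfl⟩
    exact Subtype.ext (in_out0 Q P M y)

theorem exact_T0P : Function.Exact ((inH Q P).T0pull M) (delta0 Q P M) := by
  refine fun x => ⟨fun h => ?_, ?_⟩
  · obtain ⟨θ, hθ⟩ := (T1_mk_eq_zero Q ⟨dl0 Q P M x, dl0_cocycle Q P M x⟩).1 h
    refine ⟨⟨ext0 Q P M (x : L0 P →ₗ[B] M) - (outH Q P).pull0 M θ, ?_⟩, Subtype.ext ?_⟩
    · show d1Star (Q.comp P) M (ext0 Q P M (x : L0 P →ₗ[B] M) - (outH Q P).pull0 M θ) = 0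
      rw [LinearMap.map_sub, ← PresHom.pull1_d1Star, d1Star_apply (P := Q), hθ, ← dl0_spec, sub_self]
    · show (inH Q P).pull0 M (ext0 Q P M (x : L0 P →ₗ[B] M) - (outH Q P).pull0 M θ) = _
      rw [LinearMap.map_sub, pull0_ext0, in_out0, sub_zero]
  · rintro ⟨z, rfl⟩
    refine (T1_mk_eq_zero Q ⟨_, dl0_cocycle Q P M _⟩).2
      ⟨ret0 Q P M (ext0 Q P M ((inH Q P).pull0 M z) - (z : L0 (Q.comp P) →ₗ[C] M)), out1_injective Q P M ?_⟩
    have h1 : (inH Q P).pull0 M (ext0 Q P M ((inH Q P).pull0 M z) - (z : L0 (Q.comp P) →ₗ[C] M)) = 0 := by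
      rw [LinearMap.map_sub, pull0_ext0, sub_self]
    show (outH Q P).pull1 M (d1Star Q M (ret0 Q P M _)) = (outH Q P).pull1 M (dl0 Q P M _)
    rw [PresHom.pull1_d1Star, pull0_ret0 Q P M h1, dl0_spec, LinearMap.map_sub,
      show d1Star (Q.comp P) M (z : L0 (Q.comp P) →ₗ[C] M) = 0 from z.2, sub_zero]
    rfl

theorem exact_T1Q : Function.Exact (delta0 Q P M) ((outH Q P).T1pull M) := by
  intro y
  induction y using Submodule.Quotient.induction_on with
  | H c =>
    constructor
    · intro h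
      obtain ⟨θ, hθ⟩ := (T1_mk_eq_zero (Q.comp P) ((outH Q P).cocycles1Pull M c)).1 h
      have hθ' : d1Star (Q.comp P) M θ = (outH Q P).pull1 M (c : L1 Q →ₗ[C] M) := hθ
      have hx : d1Star P M ((inH Q P).pull0 M θ) = 0 := by rw [← PresHom.pull1_d1Star, hθ', in_out1]
      refine ⟨⟨(inH Q P).pull0 M θ, hx⟩, (Submodule.Quotient.eq _).2
        ⟨ret0 Q P M (ext0 Q P M ((inH Q P).pull0 M θ) - θ), out1_injective Q P M ?_⟩⟩
      have h1 : (inH Q P).pull0 M (ext0 Q P M ((inH Q P).pull0 M θ) - θ) = 0 := by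
        rw [LinearMap.map_sub, pull0_ext0, sub_self]
      show (outH Q P).pull1 M (d1Star Q M (ret0 Q P M _)) =
        (outH Q P).pull1 M (dl0 Q P M ⟨(inH Q P).pull0 M θ, hx⟩ - (c : L1 Q →ₗ[C] M))
      rw [PresHom.pull1_d1Star, pull0_ret0 Q P M h1, LinearMap.map_sub, LinearMap.map_sub, dl0_spec, hθ']
    · rintro ⟨x, hx⟩
      rw [← hx]
      exact (T1_mk_eq_zero (Q.comp P) ((outH Q P).cocycles1Pull M ⟨_, dl0_cocycle Q P M x⟩)).2
        ⟨ext0 Q P M (x : L0 P →ₗ[B] M), (dl0_spec Q P M x).symm⟩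

theorem exact_T1T : Function.Exact ((outH Q P).T1pull M) ((inH Q P).T1pull M) := by
  intro x
  induction x using Submodule.Quotient.induction_on with
  | H c =>
    constructor
    · intro h
      obtain ⟨θ, hθ⟩ := (T1_mk_eq_zero P ((inH Q P).cocycles1Pull M c)).1 h
      have hθ' : d1Star P M θ = (inH Q P).pull1 M (c : L1 (Q.comp P) →ₗ[C] M) := hθ
      have h1 : (inH Q P).pull1 M ((c : L1 (Q.comp P) →ₗ[C] M) - d1Star (Q.comp P) M (ext0 Q P M θ)) = 0 := by
        rw [LinearMap.map_sub, PresHom.pull1_d1Star, pull0_ext0, hθ', sub_self]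
      have hy : d2Star Q M (ret1 Q P M ((c : L1 (Q.comp P) →ₗ[C] M) - d1Star (Q.comp P) M (ext0 Q P M θ))) = 0 :=
        out2_injective Q P M (by
          rw [PresHom.pull2_d2Star, pull1_ret1 Q P M h1, LinearMap.map_sub, d2_d1, sub_zero, LinearMap.map_zero]
          exact c.2)
      refine ⟨Submodule.Quotient.mk ⟨_, hy⟩, (Submodule.Quotient.eq _).2 ⟨-ext0 Q P M θ, ?_⟩⟩
      show d1Star (Q.comp P) M (-ext0 Q P M θ) = (outH Q P).pull1 M (ret1 Q P M _) - (c : L1 (Q.comp P) →ₗ[C] M)
      rw [pull1_ret1 Q P M h1, LinearMap.map_neg, sub_sub_cancel_left]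
    · rintro ⟨y, hy⟩
      rw [← hy]
      induction y using Submodule.Quotient.induction_on with
      | H c' =>
        exact (T1_mk_eq_zero P ((inH Q P).cocycles1Pull M ((outH Q P).cocycles1Pull M c'))).2
          ⟨0, (LinearMap.zero_comp _).trans (in_out1 Q P M _).symm⟩

theorem exists_dl1 (c : cocycles1 P M) :
    ∃ y, (outH Q P).pull2 M y = d2Star (Q.comp P) M (ext1 Q P M (c : L1 P →ₗ[B] M)) :=
  exists_out2 Q P M (by rw [PresHom.pull2_d2Star, pull1_ext1]; exact c.2)

/-- The connecting map on cocycles. -/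
def delta1' : cocycles1 P M →+ T2 Q M :=
  AddMonoidHom.mk' (fun c => Submodule.Quotient.mk (exists_dl1 Q P M c).choose) fun x y => by
    rw [← Submodule.Quotient.mk_add]
    refine congrArg Submodule.Quotient.mk (out2_injective Q P M ?_)
    rw [LinearMap.map_add, (exists_dl1 Q P M x).choose_spec, (exists_dl1 Q P M y).choose_spec,
      (exists_dl1 Q P M (x + y)).choose_spec, ← LinearMap.map_add, ← map_add]
    rfl

theorem delta1'_eq {c : cocycles1 P M} (θ : L1 (Q.comp P) →ₗ[C] M) (y : L2 Q →ₗ[C] M)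
    (hθ : (inH Q P).pull1 M θ = (c : L1 P →ₗ[B] M)) (hy : (outH Q P).pull2 M y = d2Star (Q.comp P) M θ) :
    delta1' Q P M c = Submodule.Quotient.mk y := by
  have h1 : (inH Q P).pull1 M (ext1 Q P M (c : L1 P →ₗ[B] M) - θ) = 0 := by
    rw [LinearMap.map_sub, pull1_ext1, hθ, sub_self]
  refine (Submodule.Quotient.eq _).2 ⟨ret1 Q P M (ext1 Q P M (c : L1 P →ₗ[B] M) - θ), out2_injective Q P M ?_⟩
  rw [PresHom.pull2_d2Star, pull1_ret1 Q P M h1, LinearMap.map_sub, LinearMap.map_sub, hy,
    (exists_dl1 Q P M c).choose_spec]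

theorem delta1'_coboundary {c : cocycles1 P M} (hc : c ∈ coboundaries1 P M) : delta1' Q P M c = 0 := by
  obtain ⟨θ, hθ⟩ := hc
  refine (delta1'_eq Q P M (d1Star (Q.comp P) M (ext0 Q P M θ)) 0 ?_ ?_).trans (Submodule.Quotient.mk_zero _)
  · rw [PresHom.pull1_d1Star, pull0_ext0]; exact hθ
  · rw [LinearMap.map_zero, d2_d1]

/-- The connecting map in degree `1`. -/
def delta1 : T1 P M →+ T2 Q M :=
  QuotientAddGroup.lift (coboundaries1 P M).toAddSubgroup (delta1' Q P M) fun _ hc => delta1'_coboundary Q P M hc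

theorem delta1_mk (c : cocycles1 P M) : delta1 Q P M (Submodule.Quotient.mk c) = delta1' Q P M c := rfl

theorem exact_T1P : Function.Exact ((inH Q P).T1pull M) (delta1 Q P M) := by
  intro x
  induction x using Submodule.Quotient.induction_on with
  | H c =>
    constructor
    · intro h
      obtain ⟨θ, hθ⟩ := (T2_mk_eq_zero Q (exists_dl1 Q P M c).choose).1 h
      have hθ' : d2Star Q M θ = (exists_dl1 Q P M c).choose := hθ
      have hz : d2Star (Q.comp P) M (ext1 Q P M (c : L1 P →ₗ[B] M) - (outH Q P).pull1 M θ) = 0 := by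
        rw [LinearMap.map_sub, ← PresHom.pull2_d2Star, hθ', (exists_dl1 Q P M c).choose_spec, sub_self]
      refine ⟨Submodule.Quotient.mk ⟨_, hz⟩, congrArg Submodule.Quotient.mk (Subtype.ext ?_)⟩
      show (inH Q P).pull1 M (ext1 Q P M (c : L1 P →ₗ[B] M) - (outH Q P).pull1 M θ) = _
      rw [LinearMap.map_sub, pull1_ext1, in_out1, sub_zero]
    · rintro ⟨y, hy⟩
      rw [← hy]
      induction y using Submodule.Quotient.induction_on with
      | H z =>
        show delta1' Q P M ((inH Q P).cocycles1Pull M z) = 0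
        refine (delta1'_eq Q P M (z : L1 (Q.comp P) →ₗ[C] M) 0 rfl ?_).trans (Submodule.Quotient.mk_zero _)
        rw [LinearMap.map_zero]; exact z.2.symm

theorem exact_T2Q : Function.Exact (delta1 Q P M) ((outH Q P).T2pull M) := by
  intro x
  induction x using Submodule.Quotient.induction_on with
  | H q =>
    constructor
    · intro h
      obtain ⟨θ, hθ⟩ := (T2_mk_eq_zero (Q.comp P) ((outH Q P).pull2 M q)).1 h
      have hθ' : d2Star (Q.comp P) M θ = (outH Q P).pull2 M q := hθ
      have hc : d2Star P M ((inH Q P).pull1 M θ) = 0 := by rw [← PresHom.pull2_d2Star, hθ', in_out2]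
      exact ⟨Submodule.Quotient.mk ⟨_, hc⟩, delta1'_eq Q P M θ q rfl hθ'.symm⟩
    · rintro ⟨y, hy⟩
      rw [← hy]
      induction y using Submodule.Quotient.induction_on with
      | H c =>
        exact (T2_mk_eq_zero (Q.comp P) ((outH Q P).pull2 M (exists_dl1 Q P M c).choose)).2
          ⟨ext1 Q P M (c : L1 P →ₗ[B] M), (exists_dl1 Q P M c).choose_spec.symm⟩

theorem exact_T2T : Function.Exact ((outH Q P).T2pull M) ((inH Q P).T2pull M) := by
  intro x
  induction x using Submodule.Quotient.induction_on with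
  | H c =>
    constructor
    · intro h
      obtain ⟨θ, hθ⟩ := (T2_mk_eq_zero P ((inH Q P).pull2 M c)).1 h
      have hθ' : d2Star P M θ = (inH Q P).pull2 M c := hθ
      obtain ⟨y, hy⟩ := exists_out2 Q P M (c := c - d2Star (Q.comp P) M (ext1 Q P M θ)) (by
        rw [LinearMap.map_sub, PresHom.pull2_d2Star, pull1_ext1, hθ', sub_self])
      refine ⟨Submodule.Quotient.mk y, (Submodule.Quotient.eq _).2 ⟨-ext1 Q P M θ, ?_⟩⟩
      show d2Star (Q.comp P) M (-ext1 Q P M θ) = (outH Q P).pull2 M y - c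
      rw [hy, LinearMap.map_neg, sub_sub_cancel_left]
    · rintro ⟨y, hy⟩
      rw [← hy]
      induction y using Submodule.Quotient.induction_on with
      | H c' => exact (T2_mk_eq_zero P _).2 ⟨0, (LinearMap.zero_comp _).trans (in_out2 Q P M c').symm⟩

theorem nine_term :
    Function.Injective ((outH Q P).T0pull M) ∧
    Function.Exact ((outH Q P).T0pull M) ((inH Q P).T0pull M) ∧
    Function.Exact ((outH Q P).T1pull M) ((inH Q P).T1pull M) ∧
    Function.Exact ((outH Q P).T2pull M) ((inH Q P).T2pull M) ∧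
    ∃ (δ₀ : T0 P M →+ T1 Q M) (δ₁ : T1 P M →+ T2 Q M),
      Function.Exact ((inH Q P).T0pull M) δ₀ ∧ Function.Exact δ₀ ((outH Q P).T1pull M) ∧
      Function.Exact ((inH Q P).T1pull M) δ₁ ∧ Function.Exact δ₁ ((outH Q P).T2pull M) :=
  ⟨T0_left Q P M, exact_T0T Q P M, exact_T1T Q P M, exact_T2T Q P M, delta0 Q P M, delta1 Q P M,
    exact_T0P Q P M, exact_T1Q Q P M, exact_T1P Q P M, exact_T2Q Q P M⟩

end Groth.Agent.CotT
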