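import Groth.Agent.CotT.RegQuot
import Mathlib.RingTheory.Smooth.Local
import Mathlib.RingTheory.Smooth.Locus
import Mathlib.RingTheory.Etale.Kaehler
import Mathlib.RingTheory.RingHom.Surjective
import Mathlib.RingTheory.RegularLocalRing.Polynomial
import Mathlib.RingTheory.Nullstellensatz
import Mathlib.RingTheory.Jacobson.Ring

/-! Regular = smooth at closed points over an algebraically closed field. -/

open TensorProduct IsLocalRing

universe u

noncomputable section

namespace Groth.Agent.CotT

theorem regular_quot_aux (N : ℕ) : ∀ (R : Type u) [CommRing R] [IsRegularLocalRing R],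
    (maximalIdeal R).spanFinrank ≤ N → ∀ n : Ideal R, n ≠ ⊤ →
      n ⊓ maximalIdeal R ^ 2 ≤ maximalIdeal R * n → IsRegularRing (R ⧸ n) := by
  induction N with
  | zero =>
    intro R _ _ hN n hn _
    have hm : maximalIdeal R = ⊥ :=
      (Submodule.spanFinrank_eq_zero_iff_eq_bot (IsNoetherian.noetherian _)).1 (Nat.le_zero.1 hN)
    have hbot : n = ⊥ := le_bot_iff.1 ((le_maximalIdeal hn).trans hm.le)
    have := isRegularRing_of_local R
    exact IsRegularRing.of_ringEquiv ((RingEquiv.quotientBot R).symm.trans (Ideal.quotEquivOfEq hbot.symm))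
  | succ N ih =>
    intro R _ _ hN n hn hsq
    by_cases hbot : n = ⊥
    · have := isRegularRing_of_local R
      exact IsRegularRing.of_ringEquiv ((RingEquiv.quotientBot R).symm.trans (Ideal.quotEquivOfEq hbot.symm))
    obtain ⟨x, hx, hx2⟩ : ∃ x ∈ n, x ∉ maximalIdeal R ^ 2 := by
      by_contra h
      push Not at h
      refine hbot (Submodule.eq_bot_of_le_smul_of_le_jacobson_bot (maximalIdeal R) n (IsNoetherian.noetherian _) ?_
        (maximalIdeal_le_jacobson _))
      exact fun y hy => hsq ⟨hy, h y hy⟩
    have hxm : x ∈ maximalIdeal R := le_maximalIdeal hn hx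
    obtain ⟨hR', -⟩ := SerreReg.isRegularLocalRing_quot hxm hx2
    have := hR'
    have hdrop := SerreReg.spanFinrank_quot_succ_le hxm hx2
    have hle : Ideal.span {x} ≤ n := (Ideal.span_singleton_le_iff_mem _).2 hx
    let π := Ideal.Quotient.mk (Ideal.span {x})
    have hπ : Function.Surjective π := Ideal.Quotient.mk_surjective
    have hcomap : (n.map π).comap π = n := by
      rw [Ideal.comap_map_of_surjective' _ hπ, Ideal.mk_ker, sup_eq_left.2 hle]
    have hn' : n.map π ≠ ⊤ := fun h => hn (by rw [← hcomap, h, Ideal.comap_top])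
    have hmax : (maximalIdeal R).map π = maximalIdeal (R ⧸ Ideal.span {x}) :=
      IsLocalRing.eq_maximalIdeal ((Ideal.map_eq_top_or_isMaximal_of_surjective π hπ
        (maximalIdeal.isMaximal R)).resolve_left fun h => by
          have h1 := Ideal.comap_map_of_surjective' π hπ (maximalIdeal R)
          rw [h, Ideal.comap_top, Ideal.mk_ker, sup_eq_left.2 ((Ideal.span_singleton_le_iff_mem _).2 hxm)] at h1
          exact (maximalIdeal.isMaximal R).ne_top h1.symm)
    have hsq' : n.map π ⊓ maximalIdeal (R ⧸ Ideal.span {x}) ^ 2 ≤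
        maximalIdeal (R ⧸ Ideal.span {x}) * n.map π := by
      rintro w ⟨hw1, hw2⟩
      rw [← hmax, ← Ideal.map_pow] at hw2
      obtain ⟨z, hz, rfl⟩ := (Ideal.mem_map_iff_of_surjective π hπ).1 hw2
      have hzn : z ∈ n := by rw [← hcomap]; exact hw1
      rw [← hmax, ← Ideal.map_mul]
      exact Ideal.mem_map_of_mem _ (hsq ⟨hzn, hz⟩)
    have := ih (R ⧸ Ideal.span {x}) (by omega) (n.map π) hn' hsq'
    exact IsRegularRing.of_ringEquiv (DoubleQuot.quotQuotEquivQuotOfLE hle)

section Criterion

variable {k P S : Type u} [Field k] [CommRing P] [CommRing S] [IsLocalRing P] [IsLocalRing S]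
variable [Algebra k P] [Algebra k S] [Algebra P S] [IsScalarTower k P S]

theorem one_tmul_zero_iff {K W : Type*} [CommRing K] [Algebra P K] [AddCommGroup W] [Module P W]
    (hK : Function.Surjective (algebraMap P K)) (w : W) :
    (1 : K) ⊗ₜ[P] w = 0 ↔ w ∈ RingHom.ker (algebraMap P K) • (⊤ : Submodule P W) := by
  let e0 : (P ⧸ RingHom.ker (algebraMap P K)) ≃ₐ[P] K :=
    Ideal.quotientKerAlgEquivOfSurjective (f := Algebra.ofId P K) hK
  let e := (LinearEquiv.rTensor W e0.toLinearEquiv).symm.trans
    (TensorProduct.quotTensorEquivQuotSMul W (RingHom.ker (algebraMap P K)))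
  have he : e ((1 : K) ⊗ₜ w) = Submodule.Quotient.mk w := by
    show TensorProduct.quotTensorEquivQuotSMul W _ (e0.toLinearEquiv.symm 1 ⊗ₜ w) = _
    rw [show e0.toLinearEquiv.symm 1 = Ideal.Quotient.mk _ 1 from map_one e0.symm,
      TensorProduct.quotTensorEquivQuotSMul_mk_tmul, one_smul]
  rw [← e.map_eq_zero_iff, he, Submodule.Quotient.mk_eq_zero]

/-- The residue field is `k`. -/
def HasResidue (k P : Type u) [Field k] [CommRing P] [IsLocalRing P] [Algebra k P] : Prop :=
  Function.Surjective (algebraMap k (ResidueField P))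

theorem exists_const (h : HasResidue k P) (p : P) : ∃ c : k, p - algebraMap k P c ∈ maximalIdeal P := by
  obtain ⟨c, hc⟩ := h (residue P p)
  refine ⟨c, ?_⟩
  rw [← residue_eq_zero_iff, map_sub]
  rw [IsScalarTower.algebraMap_apply k P (ResidueField P)] at hc
  rw [show residue P (algebraMap k P c) = algebraMap P (ResidueField P) (algebraMap k P c) from rfl, hc, sub_self]

theorem const_unique {p : P} {c c' : k} (h : p - algebraMap k P c ∈ maximalIdeal P)
    (h' : p - algebraMap k P c' ∈ maximalIdeal P) : c = c' := by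
  by_contra hne
  refine (maximalIdeal.isMaximal P).ne_top ((Ideal.eq_top_iff_one _).2 ?_)
  have h1 := Ideal.mul_mem_left _ (algebraMap k P (c' - c)⁻¹) (sub_mem h h')
  rwa [sub_sub_sub_cancel_left, ← map_sub, ← map_mul, inv_mul_cancel₀ (sub_ne_zero.2 (Ne.symm hne)), map_one] at h1

theorem mem_sq_of_D (h : HasResidue k P) {i : P} (hi : i ∈ maximalIdeal P)
    (hD : KaehlerDifferential.D k P i ∈ maximalIdeal P • (⊤ : Submodule P (Ω[P⁄k]))) :
    i ∈ maximalIdeal P ^ 2 := by
  choose c hc using exists_const h
  let δ : P → (maximalIdeal P).Cotangent := fun p => Ideal.toCotangent _ ⟨p - algebraMap k P (c p), hc p⟩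
  have hδ : ∀ p (a : k) (ha : p - algebraMap k P a ∈ maximalIdeal P),
      δ p = Ideal.toCotangent _ ⟨p - algebraMap k P a, ha⟩ := fun p a ha => by
    have := const_unique (hc p) ha
    subst this
    rfl
  have hmaxsmul : ∀ {p : P}, p ∈ maximalIdeal P → ∀ z : (maximalIdeal P).Cotangent, p • z = 0 := fun {p} hp z => by
    obtain ⟨z, rfl⟩ := Ideal.toCotangent_surjective _ z
    rw [← map_smul, Ideal.toCotangent_eq_zero, pow_two]
    exact Ideal.mul_mem_mul hp z.2
  let dl : P →ₗ[k] (maximalIdeal P).Cotangent :=
    { toFun := δ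
      map_add' := fun p q => by
        have hm : p + q - algebraMap k P (c p + c q) ∈ maximalIdeal P := by
          rw [map_add, add_sub_add_comm]; exact add_mem (hc p) (hc q)
        rw [hδ (p + q) (c p + c q) hm]
        show _ = δ p + δ q
        rw [← map_add]
        congr 1
        ext
        simp only [Submodule.coe_add, map_add]
        ring
      map_smul' := fun a p => by
        have hm : a • p - algebraMap k P (a * c p) ∈ maximalIdeal P := by
          rw [Algebra.smul_def, map_mul, ← mul_sub]; exact Ideal.mul_mem_left _ _ (hc p)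
        rw [hδ (a • p) (a * c p) hm, RingHom.id_apply, ← algebraMap_smul P a (δ p), ← map_smul]
        congr 1
        ext
        simp only [Submodule.coe_smul, smul_eq_mul, Algebra.smul_def, map_mul]
        ring }
  let d : Derivation k P (maximalIdeal P).Cotangent :=
    { toLinearMap := dl
      map_one_eq_zero' := by
        show δ 1 = 0
        rw [hδ 1 1 (by simp), Ideal.toCotangent_eq_zero]
        simp
      leibniz' := fun p q => by
        show δ (p * q) = p • δ q + q • δ p
        have hm : p * q - algebraMap k P (c p * c q) ∈ maximalIdeal P := by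
          rw [show p * q - algebraMap k P (c p * c q) =
            (p - algebraMap k P (c p)) * q + algebraMap k P (c p) * (q - algebraMap k P (c q)) by rw [map_mul]; ring]
          exact add_mem (Ideal.mul_mem_right _ _ (hc p)) (Ideal.mul_mem_left _ _ (hc q))
        rw [hδ (p * q) (c p * c q) hm, ← map_smul, ← map_smul, ← map_add, Ideal.toCotangent_eq, pow_two]
        simp only [Submodule.coe_add, Submodule.coe_smul, smul_eq_mul, map_mul]
        rw [show p * q - algebraMap k P (c p) * algebraMap k P (c q) -
          (p * (q - algebraMap k P (c q)) + q * (p - algebraMap k P (c p))) =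
          -((p - algebraMap k P (c p)) * (q - algebraMap k P (c q))) by ring]
        exact neg_mem (Ideal.mul_mem_mul (hc p) (hc q)) }
  have hzero : d.liftKaehlerDifferential (KaehlerDifferential.D k P i) = 0 := by
    refine Submodule.smul_induction_on hD (fun p hp w _ => ?_) (fun x y hx hy => ?_)
    · rw [map_smul, hmaxsmul hp]
    · rw [map_add, hx, hy, add_zero]
  rw [Derivation.liftKaehlerDifferential_comp_D] at hzero
  have hci : i - algebraMap k P (0 : k) ∈ maximalIdeal P := by simpa using hi
  have h2 : δ i = 0 := hzero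
  rw [hδ i 0 hci, Ideal.toCotangent_eq_zero] at h2
  simpa using h2

theorem D_mem_of_sq {i : P} (hi : i ∈ maximalIdeal P ^ 2) :
    KaehlerDifferential.D k P i ∈ maximalIdeal P • (⊤ : Submodule P (Ω[P⁄k])) := by
  rw [pow_two] at hi
  induction hi using Submodule.mul_induction_on' with
  | mem_mul_mem a ha b hb =>
    rw [Derivation.leibniz]
    exact add_mem (Submodule.smul_mem_smul ha Submodule.mem_top) (Submodule.smul_mem_smul hb Submodule.mem_top)
  | add a _ b _ ha hb => rw [map_add]; exact add_mem ha hb

variable [Algebra.FormallySmooth k P] [Module.Free P (Ω[P⁄k])] [Module.Finite P (Ω[P⁄k])]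

theorem formallySmooth_iff_inf_sq (h : HasResidue k P) (hs : Function.Surjective (algebraMap P S))
    (hfg : (RingHom.ker (algebraMap P S)).FG) :
    Algebra.FormallySmooth k S ↔
      RingHom.ker (algebraMap P S) ⊓ maximalIdeal P ^ 2 ≤ maximalIdeal P * RingHom.ker (algebraMap P S) := by
  rw [Algebra.FormallySmooth.iff_injective_cotangentComplexBaseChange_residueField P hs hfg]
  set I := RingHom.ker (algebraMap P S)
  have hK : Function.Surjective (algebraMap P (ResidueField S)) := by
    rw [IsScalarTower.algebraMap_eq P S (ResidueField S)]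
    exact (residue_surjective).comp hs
  have hker : RingHom.ker (algebraMap P (ResidueField S)) = maximalIdeal P :=
    IsLocalRing.eq_maximalIdeal (RingHom.ker_isMaximal_of_surjective _ hK)
  have hval : ∀ i : I, KaehlerDifferential.cotangentComplexBaseChange k S P (ResidueField S)
      ((1 : ResidueField S) ⊗ₜ i) = (1 : ResidueField S) ⊗ₜ KaehlerDifferential.D k P (i : P) := fun i => by
    rw [KaehlerDifferential.cotangentComplexBaseChange_tmul, one_smul]
    rfl
  have hI : ∀ i : I, (1 : ResidueField S) ⊗ₜ[P] i = 0 ↔ (i : P) ∈ maximalIdeal P * I := fun i => by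
    rw [one_tmul_zero_iff hK, hker]
    have key : (maximalIdeal P • (⊤ : Submodule P I)).map (Submodule.subtype I) = maximalIdeal P * I := by
      rw [Submodule.map_smul'', Submodule.map_top, Submodule.range_subtype]; rfl
    rw [← key]
    exact ⟨fun hi => Submodule.mem_map_of_mem hi,
      fun ⟨j, hj, hji⟩ => (Subtype.ext hji : j = i) ▸ hj⟩
  constructor
  · intro hinj i ⟨hiI, hi2⟩
    refine (hI ⟨i, hiI⟩).1 (hinj ?_)
    rw [hval, map_zero, one_tmul_zero_iff hK, hker]
    exact D_mem_of_sq hi2
  · intro hsq
    rw [injective_iff_map_eq_zero]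
    intro x hx
    have key : ∀ z : ResidueField S ⊗[P] I, ∃ i : I, (1 : ResidueField S) ⊗ₜ[P] i = z := by
      intro z
      induction z using TensorProduct.induction_on with
      | zero => exact ⟨0, tmul_zero _ _⟩
      | add a b ha hb =>
        obtain ⟨i, rfl⟩ := ha
        obtain ⟨j, rfl⟩ := hb
        exact ⟨i + j, tmul_add _ _ _⟩
      | tmul r i =>
        obtain ⟨p, rfl⟩ := hK r
        exact ⟨p • i, by rw [tmul_smul, smul_tmul', ← Algebra.algebraMap_eq_smul_one]⟩
    obtain ⟨i, rfl⟩ := key x
    rw [hval, one_tmul_zero_iff hK, hker] at hx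
    have him : (i : P) ∈ maximalIdeal P := le_maximalIdeal (RingHom.ker_ne_top _) i.2
    exact (hI i).2 (hsq ⟨i.2, mem_sq_of_D h him hx⟩)

theorem formallySmooth_iff_regular [IsRegularLocalRing P] (h : HasResidue k P)
    (hs : Function.Surjective (algebraMap P S)) :
    Algebra.FormallySmooth k S ↔ IsRegularLocalRing S := by
  set I := RingHom.ker (algebraMap P S)
  let e : (P ⧸ I) ≃+* S := RingHom.quotientKerEquivOfSurjective hs
  have hne : I ≠ ⊤ := RingHom.ker_ne_top _
  rw [formallySmooth_iff_inf_sq h hs (IsNoetherian.noetherian _)]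
  constructor
  · intro hsq
    have : IsRegularRing (P ⧸ I) := regular_quot_aux _ P le_rfl I hne hsq
    have : IsRegularRing S := IsRegularRing.of_ringEquiv e
    exact IsRegularLocalRing.of_isRegularRing_of_isLocalRing S
  · intro hS
    have : IsRegularRing S := isRegularRing_of_local S
    have : IsRegularRing (P ⧸ I) := IsRegularRing.of_ringEquiv e.symm
    exact RegLoc.inf_sq_le_mul_of_regular_quotient I hne

end Criterion

theorem regular_iff_smoothAt {k B : Type u} [Field k] [IsAlgClosed k] [CommRing B] [Algebra k B]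
    [Algebra.FiniteType k B] (m : Ideal B) [hm : m.IsMaximal] :
    IsRegularLocalRing (Localization.AtPrime m) ↔ Algebra.FormallySmooth k (Localization.AtPrime m) := by
  obtain ⟨n, π, hπ⟩ := Algebra.FiniteType.iff_quotient_mvPolynomial''.1 ‹Algebra.FiniteType k B›
  let M := m.comap π.toRingHom
  have : M.IsMaximal := Ideal.comap_isMaximal_of_surjective π.toRingHom hπ
  let φ := Localization.localRingHom M m π.toRingHom rfl
  have hφ : Function.Surjective φ := RingHom.surjective_localRingHom_of_surjective π.toRingHom hπ m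
  let _ : Algebra (Localization.AtPrime M) (Localization.AtPrime m) := φ.toAlgebra
  have : IsScalarTower k (Localization.AtPrime M) (Localization.AtPrime m) := IsScalarTower.of_algebraMap_eq fun x => by
    show _ = φ _
    rw [IsScalarTower.algebraMap_apply k (MvPolynomial (Fin n) k) (Localization.AtPrime M),
      Localization.localRingHom_to_map, IsScalarTower.algebraMap_apply k B (Localization.AtPrime m)]
    exact congrArg _ (π.commutes x).symm
  have : Algebra.FormallyEtale (MvPolynomial (Fin n) k) (Localization.AtPrime M) :=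
    .of_isLocalization M.primeCompl
  have : Algebra.FormallySmooth k (Localization.AtPrime M) := .comp _ (MvPolynomial (Fin n) k) _
  have : Module.Free (Localization.AtPrime M) (Ω[Localization.AtPrime M⁄k]) :=
    .of_equiv (KaehlerDifferential.tensorKaehlerEquivOfFormallyEtale k (MvPolynomial (Fin n) k) (Localization.AtPrime M))
  have : Module.Finite (Localization.AtPrime M) (Ω[Localization.AtPrime M⁄k]) :=
    .equiv (KaehlerDifferential.tensorKaehlerEquivOfFormallyEtale k (MvPolynomial (Fin n) k) (Localization.AtPrime M))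
  refine (formallySmooth_iff_regular (P := Localization.AtPrime M) ?_ hφ).symm
  -- the residue field of a closed point is `k`
  intro y
  obtain ⟨x, rfl⟩ := residue_surjective y
  obtain ⟨a, s, rfl⟩ := IsLocalization.exists_mk'_eq M.primeCompl x
  have hfin : ∀ z : MvPolynomial (Fin n) k, ∃ c : k, z - MvPolynomial.C c ∈ M := by
    intro z
    let _ := Ideal.Quotient.field M
    have : Module.Finite k (MvPolynomial (Fin n) k ⧸ M) := finite_of_finite_type_of_isJacobsonRing _ _
    obtain ⟨c, hc⟩ := IsAlgClosed.algebraMap_bijective_of_isIntegral (k := k) (K := MvPolynomial (Fin n) k ⧸ M)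
      |>.2 (Ideal.Quotient.mk M z)
    exact ⟨c, Ideal.Quotient.eq.1 hc.symm⟩
  obtain ⟨ca, hca⟩ := hfin a
  obtain ⟨cs, hcs⟩ := hfin (s : MvPolynomial (Fin n) k)
  have hcs0 : cs ≠ 0 := fun h => s.2 (by simpa [h] using hcs)
  refine ⟨ca / cs, ?_⟩
  rw [IsScalarTower.algebraMap_apply k (Localization.AtPrime M) (ResidueField _)]
  refine ((Ideal.Quotient.eq).2 ?_).symm
  rw [IsScalarTower.algebraMap_apply k (MvPolynomial (Fin n) k) (Localization.AtPrime M)]
  have hu := IsLocalization.map_units (Localization.AtPrime M) s
  rw [← Ideal.unit_mul_mem_iff_mem _ hu, mul_sub, IsLocalization.mk'_spec'_mk, ← map_mul, ← map_sub,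
    IsLocalization.AtPrime.to_map_mem_maximal_iff (Localization.AtPrime M) M]
  have e : a - (s : MvPolynomial (Fin n) k) * algebraMap k _ (ca / cs) =
      (a - MvPolynomial.C ca) - ((s : MvPolynomial (Fin n) k) - MvPolynomial.C cs) * MvPolynomial.C (ca / cs) := by
    rw [MvPolynomial.algebraMap_eq, sub_mul, ← map_mul, mul_div_cancel₀ _ hcs0]; ring
  rw [e]
  exact sub_mem hca (Ideal.mul_mem_right _ _ hcs)

end Groth.Agent.CotT
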