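import Groth.Agent.CotT.Inject
import Groth.Agent.CotT.PointSmooth
import Groth.Agent.CotT.Localization
import Groth.Agent.CotT.NineTerm

/-! Smooth algebras over an algebraically closed field have vanishing `T²`. -/

open TensorProduct IsLocalRing

noncomputable section

namespace Groth.Agent.CotT

open _root_.CotT

universe u w t m

set_option maxHeartbeats 3200000

variable {k B : Type u} [Field k] [IsAlgClosed k] [CommRing B] [Algebra k B]

theorem ker_localRingHom {R : Type*} [CommRing R] (f : R →+* B) (hf : Function.Surjective f) (m : Ideal B)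
    [m.IsPrime] (M : Ideal R) [M.IsPrime] (hM : M = m.comap f) :
    RingHom.ker (Localization.localRingHom M m f hM) = (RingHom.ker f).map (algebraMap R (Localization.AtPrime M)) := by
  ext x
  obtain ⟨a, s, rfl⟩ := IsLocalization.exists_mk'_eq M.primeCompl x
  rw [RingHom.mem_ker, Localization.localRingHom_mk', IsLocalization.mk'_eq_zero_iff]
  constructor
  · rintro ⟨⟨t, ht⟩, h⟩
    obtain ⟨t', rfl⟩ := hf t
    have ht' : t' ∈ M.primeCompl := fun h' => ht (by subst hM; exact h')
    have hmem : algebraMap R (Localization.AtPrime M) (t' * a) ∈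
        (RingHom.ker f).map (algebraMap R (Localization.AtPrime M)) :=
      Ideal.mem_map_of_mem _ (by rw [RingHom.mem_ker, map_mul]; exact h)
    rw [map_mul, Ideal.unit_mul_mem_iff_mem _ (IsLocalization.map_units _ ⟨t', ht'⟩)] at hmem
    rw [← Ideal.mul_unit_mem_iff_mem _ (IsLocalization.map_units (Localization.AtPrime M) s)]
    simpa using hmem
  · intro h
    rw [← Ideal.mul_unit_mem_iff_mem _ (IsLocalization.map_units (Localization.AtPrime M) s), IsLocalization.mk'_spec,
      IsLocalization.mem_map_algebraMap_iff M.primeCompl] at h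
    obtain ⟨⟨⟨c, hc⟩, ⟨t, ht⟩⟩, he⟩ := h
    simp only [← map_mul] at he
    obtain ⟨⟨d, hd⟩, hd'⟩ := (IsLocalization.eq_iff_exists M.primeCompl _).1 he
    refine ⟨⟨f (d * t), fun h' => M.primeCompl.mul_mem hd ht (by subst hM; exact h')⟩, ?_⟩
    show f (d * t) * f a = 0
    rw [← map_mul, show d * t * a = d * (a * t) by ring, hd', map_mul, RingHom.mem_ker.1 hc, mul_zero]

theorem d2_injective_of_formallySmooth [Algebra.FiniteType k B] [Algebra.FormallySmooth k B] {ι : Type w}
    {σ : Type t} [Finite ι] (P : Algebra.Presentation k B ι σ) : Function.Injective (d2 P) := by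
  refine d2_injective P fun M hM hle => ?_
  let f := algebraMap P.toExtension.Ring B
  have hf : Function.Surjective f := algebraMap_surjective P
  let m := M.map f
  have hcomap : m.comap f = M := by
    rw [Ideal.comap_map_of_surjective' _ hf]; exact sup_eq_left.2 hle
  have hm : m.IsMaximal := (Ideal.map_eq_top_or_isMaximal_of_surjective f hf hM).resolve_left fun h => hM.ne_top (by
    rw [← hcomap, show m = ⊤ from h, Ideal.comap_top])
  have : Algebra.FormallyEtale B (Localization.AtPrime m) := .of_isLocalization m.primeCompl
  have hsm : Algebra.FormallySmooth k (Localization.AtPrime m) := .comp _ B _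
  have := (regular_iff_smoothAt (k := k) m).2 hsm
  have := isRegularRing_of_local (Localization.AtPrime m)
  let φ := Localization.localRingHom M m f hcomap.symm
  have hφ : Function.Surjective φ := by
    intro y
    obtain ⟨b, s, rfl⟩ := IsLocalization.exists_mk'_eq m.primeCompl y
    obtain ⟨a, rfl⟩ := hf b
    obtain ⟨s, hs⟩ := s
    obtain ⟨s', rfl⟩ := hf s
    exact ⟨IsLocalization.mk' _ a (⟨s', fun h => hs (show s' ∈ m.comap f from hcomap.symm ▸ h)⟩ : M.primeCompl),
      Localization.localRingHom_mk' _ _ _ _ _ _⟩
  have : IsRegularRing P.toExtension.Ring := inferInstanceAs (IsRegularRing (MvPolynomial ι k))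
  have : IsRegularRing (Localization.AtPrime M ⧸ RingHom.ker φ) :=
    IsRegularRing.of_ringEquiv (RingHom.quotientKerEquivOfSurjective hφ).symm
  obtain ⟨r, b, hspan, hb⟩ := exists_wreg_generators (RingHom.ker φ) (RingHom.ker_ne_top φ)
  refine ⟨r, b, hb, ?_⟩
  rw [hspan, ker_localRingHom f hf m M hcomap.symm]

theorem subsingleton_T2_of_smooth [Algebra.Smooth k B] {ι : Type w} {σ : Type t}
    (P : Algebra.Presentation k B ι σ) (M : Type m) [AddCommGroup M] [Module B M] : Subsingleton (T2 P M) :=
  let P₀ := Algebra.Presentation.ofFinitePresentation k B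
  have := cotangent_projective P₀
  have := T2_subsingleton_of_projective P₀ M (d2_injective_of_formallySmooth P₀)
  (T2equiv P₀ P M).toEquiv.subsingleton

theorem formallySmooth_of_maximal [Algebra.FiniteType k B]
    (h : ∀ (m : Ideal B) [m.IsMaximal], IsRegularLocalRing (Localization.AtPrime m)) : Algebra.FormallySmooth k B := by
  have : Algebra.FinitePresentation k B := Algebra.FinitePresentation.of_finiteType.1 ‹_›
  rw [← Algebra.smoothLocus_eq_univ_iff, Set.eq_univ_iff_forall]
  intro p
  obtain ⟨m, hm, hle⟩ := Ideal.exists_le_maximal p.asIdeal p.2.ne_top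
  have h1 : (⟨m, hm.isPrime⟩ : PrimeSpectrum B) ∈ Algebra.smoothLocus k B := (regular_iff_smoothAt (k := k) m).1 (h m)
  exact ((PrimeSpectrum.le_iff_specializes p ⟨m, hm.isPrime⟩).1 hle).mem_open Algebra.isOpen_smoothLocus h1

theorem regular_of_formallySmooth [Algebra.FiniteType k B] [Algebra.FormallySmooth k B] (p : Ideal B) [p.IsPrime] :
    IsRegularLocalRing (Localization.AtPrime p) := by
  obtain ⟨m, hm, hle⟩ := Ideal.exists_le_maximal p ‹p.IsPrime›.ne_top
  have : Algebra.FormallyEtale B (Localization.AtPrime m) := .of_isLocalization m.primeCompl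
  have hsm : Algebra.FormallySmooth k (Localization.AtPrime m) := .comp _ B _
  have := (regular_iff_smoothAt (k := k) m).2 hsm
  have hd : Disjoint (m.primeCompl : Set B) (p : Set B) := Set.disjoint_left.2 fun x hx hxp => hx (hle hxp)
  let q : Ideal (Localization.AtPrime m) := p.map (algebraMap B _)
  have : q.IsPrime := IsLocalization.isPrime_of_isPrime_disjoint m.primeCompl _ p ‹_› hd
  have hq : q.comap (algebraMap B (Localization.AtPrime m)) = p :=
    IsLocalization.comap_map_of_isPrime_disjoint m.primeCompl _ ‹_› hd
  have := @Groth.Agent.S0564.result _ _ _ q ‹_›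
  have e := IsLocalization.localizationLocalizationAtPrimeIsoLocalization m.primeCompl q
  have := IsRegularLocalRing.of_ringEquiv e.toRingEquiv.symm
  have aux : ∀ (p' : Ideal B) [p'.IsPrime], p' = p → IsRegularLocalRing (Localization.AtPrime p') →
      IsRegularLocalRing (Localization.AtPrime p) := by
    intro p' _ h h'
    subst h
    exact h'
  exact aux _ hq this

theorem subsingleton_T2_atPrime [Algebra.FiniteType k B] (m : Ideal B) [m.IsMaximal]
    (h : IsRegularLocalRing (Localization.AtPrime m)) {ι : Type w} {σ : Type t}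
    (P : Algebra.Presentation k (Localization.AtPrime m) ι σ) (M : Type u) [AddCommGroup M]
    [Module (Localization.AtPrime m) M] : Subsingleton (T2 P M) := by
  have : Algebra.FinitePresentation k B := Algebra.FinitePresentation.of_finiteType.1 ‹_›
  have : Algebra.IsSmoothAt k m := (regular_iff_smoothAt (k := k) m).1 h
  obtain ⟨g, hg, hsm⟩ := Algebra.IsSmoothAt.exists_notMem_smooth k m
  have hle : Submonoid.powers g ≤ m.primeCompl := Submonoid.powers_le.2 hg
  let C := Localization.Away g
  let D := Localization.AtPrime m
  let _ : Algebra C D := IsLocalization.localizationAlgebraOfSubmonoidLe C D (Submonoid.powers g) m.primeCompl hle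
  have : IsScalarTower B C D :=
    IsLocalization.localization_isScalarTower_of_submonoid_le C D (Submonoid.powers g) m.primeCompl hle
  have : IsScalarTower k C D := IsScalarTower.of_algebraMap_eq fun x => by
    rw [IsScalarTower.algebraMap_apply k B D, IsScalarTower.algebraMap_apply B C D,
      ← IsScalarTower.algebraMap_apply k B C]
  let S' := m.primeCompl.map (algebraMap B C)
  have : IsLocalization S' D :=
    IsLocalization.isLocalization_of_submonoid_le C D (Submonoid.powers g) m.primeCompl hle
  let P₀ := Algebra.Presentation.ofFinitePresentation k C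
  let Q := locPres S' D
  let _ : Module C M := Module.compHom M (algebraMap C D)
  have : IsScalarTower C D M := IsScalarTower.of_compHom C D M
  have hQ := subsingleton_T2 Q (subsingleton_L2_locPres S' D) M
  have hP : Subsingleton (T2 P₀ M) := subsingleton_T2_of_smooth P₀ M
  have hQP : Subsingleton (T2 (Q.comp P₀) M) := subsingleton_of_forall_eq 0 fun x => by
    obtain ⟨y, rfl⟩ := (exact_T2T Q P₀ M x).1 (Subsingleton.elim _ _)
    rw [Subsingleton.elim y 0, map_zero]
  exact (T2equiv (Q.comp P₀) P M).toEquiv.subsingleton

end Groth.Agent.CotT
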