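import Groth.Agent.CotT.Exact

/-! `T²` only sees the polynomial ring of a presentation, not the base ring. -/

open TensorProduct

noncomputable section

namespace Groth.Agent.CotT

open _root_.CotT

universe u v w t w' t' m

attribute [local instance] relKerGroup

set_option maxHeartbeats 1600000

variable {k : Type u} {B : Type v} {ι : Type w} {σ : Type t} {ι' : Type w'} {σ' : Type t'}
variable [CommRing k] [CommRing B] [Algebra k B] [IsEmpty ι']
variable (P : Algebra.Presentation k B ι σ) (P' : Algebra.Presentation P.toExtension.Ring B ι' σ')

theorem C_bijective : Function.Bijective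
    (algebraMap P.toExtension.Ring P'.toExtension.Ring) :=
  ⟨MvPolynomial.C_injective ι' _, MvPolynomial.C_surjective ι'⟩

theorem mem_ker_iff (x : P.toExtension.Ring) :
    algebraMap P.toExtension.Ring P'.toExtension.Ring x ∈ P'.toExtension.ker ↔ x ∈ P.toExtension.ker := by
  show algebraMap P'.toExtension.Ring B _ = 0 ↔ algebraMap P.toExtension.Ring B x = 0
  rw [← IsScalarTower.algebraMap_apply]

/-- The relations of `P'` read in the ring of `P`. -/
def downRel (s : σ') : P.toExtension.Ring := ((C_bijective P P').2 (rel P' s)).choose

theorem downRel_spec (s : σ') :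
    algebraMap P.toExtension.Ring P'.toExtension.Ring (downRel P P' s) = rel P' s :=
  ((C_bijective P P').2 (rel P' s)).choose_spec

theorem span_downRel : Ideal.span (Set.range (downRel P P')) = P.toExtension.ker := by
  ext x
  rw [← mem_ker_iff P P']
  have e : P'.toExtension.ker =
      (Ideal.span (Set.range (downRel P P'))).map (algebraMap P.toExtension.Ring P'.toExtension.Ring) := by
    rw [Ideal.map_span, ← Set.range_comp]
    have h := P'.span_range_relation_eq_ker
    exact h.symm.trans (congrArg Ideal.span (congrArg Set.range (funext fun s => (downRel_spec P P' s).symm)))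
  rw [e, ← Ideal.mem_comap, Ideal.comap_map_of_bijective _ (C_bijective P P')]

/-- The presentation of `B` over `k` with the relations of `P'`. -/
def down : Algebra.Presentation k B ι σ' where
  toGenerators := P.toGenerators
  relation := downRel P P'
  span_range_relation_eq_ker := span_downRel P P'

/-- The variables of `P` as constants. -/
def downGen : Algebra.Generators.Hom (down P P').toGenerators P'.toGenerators where
  val i := algebraMap P.toExtension.Ring P'.toExtension.Ring (var P i)
  aeval_val i := by
    refine ((MvPolynomial.aeval P'.val).commutes (var P i)).trans ?_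
    rw [algebraMap_toExtension, MvPolynomial.aeval_X]
    rfl

theorem downGen_ringHom (x : (down P P').toExtension.Ring) :
    (downGen P P').toExtensionHom.toRingHom x = algebraMap P.toExtension.Ring P'.toExtension.Ring x :=
  DFunLike.congr_fun (ringHom_ext (P := down P P') (f := (downGen P P').toExtensionHom.toRingHom)
    (g := algebraMap P.toExtension.Ring P'.toExtension.Ring)
    (fun a => (downGen P P').toExtensionHom.toRingHom_algebraMap a)
    (fun i => (downGen P P').toAlgHom_X i)) x

/-- The comparison over the change of base `k → R`. -/
def downHom : PresHom (down P P') P' where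
  hom := downGen P P'
  relVal s := Finsupp.single s 1
  jmap_relVal s := by
    rw [jmap_single, one_mul, downGen_ringHom]
    exact (downRel_spec P P' s).symm

theorem downHom_ringHom (x : (down P P').toExtension.Ring) :
    (downHom P P').ringHom x = algebraMap P.toExtension.Ring P'.toExtension.Ring x :=
  downGen_ringHom P P' x

theorem downHom_relModMap (f : relMod (down P P')) (s : σ') :
    (downHom P P').relModMap f s = (downHom P P').ringHom (f s) := by
  classical
  induction f using Finsupp.induction_linear with
  | zero => rw [map_zero, Finsupp.zero_apply, Finsupp.zero_apply, map_zero]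
  | add a b ha hb => rw [map_add, Finsupp.add_apply, Finsupp.add_apply, map_add, ha, hb]
  | single x r =>
    rw [PresHom.relModMap_single]
    show ((downHom P P').ringHom r • Finsupp.single x (1 : P'.toExtension.Ring)) s = _
    rw [Finsupp.smul_single_one, Finsupp.single_apply, Finsupp.single_apply]
    split_ifs
    · rfl
    · exact (map_zero (downHom P P').ringHom).symm

theorem downHom_bijective_ringHom : Function.Bijective (downHom P P').ringHom := by
  rw [show ⇑(downHom P P').ringHom = ⇑(algebraMap P.toExtension.Ring P'.toExtension.Ring) from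
    funext (downHom_ringHom P P')]
  exact C_bijective P P'

theorem relModMap_bijective : Function.Bijective (downHom P P').relModMap := by
  refine ⟨fun f g h => Finsupp.ext fun s => (downHom_bijective_ringHom P P').1 ?_, fun y => ?_⟩
  · rw [← downHom_relModMap, ← downHom_relModMap, h]
  · induction y using Finsupp.induction_linear with
    | zero => exact ⟨0, map_zero _⟩
    | add a b ha hb =>
      obtain ⟨a', rfl⟩ := ha
      obtain ⟨b', rfl⟩ := hb
      exact ⟨a' + b', map_add _ _ _⟩
    | single x r =>
      obtain ⟨r', rfl⟩ := (downHom_bijective_ringHom P P').2 r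
      refine ⟨Finsupp.single x r', ?_⟩
      rw [PresHom.relModMap_single]
      exact Finsupp.smul_single_one _ _

theorem relModMap_mem_trivRel_iff {f : relMod (down P P')} (h : (downHom P P').relModMap f ∈ trivRel P') :
    f ∈ trivRel (down P P') := by
  have key : ∀ y ∈ trivRel P', ∃ z ∈ trivRel (down P P'), (downHom P P').relModMap z = y := by
    intro y hy
    induction hy using Submodule.span_induction with
    | mem y hy =>
      obtain ⟨a, b, rfl⟩ := hy
      obtain ⟨a', rfl⟩ := (relModMap_bijective P P').2 a
      obtain ⟨b', rfl⟩ := (relModMap_bijective P P').2 b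
      refine ⟨jmap _ a' • b' - jmap _ b' • a', Submodule.subset_span ⟨a', b', rfl⟩, ?_⟩
      rw [map_sub, LinearMap.map_smulₛₗ, LinearMap.map_smulₛₗ, PresHom.jmap_relModMap, PresHom.jmap_relModMap]
    | zero => exact ⟨0, Submodule.zero_mem _, map_zero _⟩
    | add x y _ _ hx hy =>
      obtain ⟨s, hs, rfl⟩ := hx
      obtain ⟨s', hs', rfl⟩ := hy
      exact ⟨s + s', Submodule.add_mem _ hs hs', map_add _ _ _⟩
    | smul r x _ hx =>
      obtain ⟨s, hs, rfl⟩ := hx
      obtain ⟨r', rfl⟩ := (downHom_bijective_ringHom P P').2 r
      exact ⟨r' • s, Submodule.smul_mem _ _ hs, LinearMap.map_smulₛₗ _ _ _⟩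
  obtain ⟨z, hz, hzf⟩ := key _ h
  rwa [← (relModMap_bijective P P').1 hzf]

/-- `L₂` as a linear map. -/
def down2 : L2 (down P P') →ₗ[B] L2 P' where
  toFun := (downHom P P').L2map
  map_add' := (downHom P P').L2map.map_add
  map_smul' b z := by rw [LinearMap.map_smulₛₗ, Algebra.algebraMap_self_apply, RingHom.id_apply]

/-- `L₁` as a linear map. -/
def down1 : L1 (down P P') →ₗ[B] L1 P' where
  toFun := (downHom P P').L1map
  map_add' := (downHom P P').L1map.map_add
  map_smul' b z := by rw [LinearMap.map_smulₛₗ, Algebra.algebraMap_self_apply, RingHom.id_apply]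

theorem down2_bijective : Function.Bijective (down2 P P') := by
  constructor
  · rw [injective_iff_map_eq_zero]
    intro z hz
    obtain ⟨q, rfl⟩ := mkL2_surjective _ z
    have hz' : (downHom P P').L2map (mkL2 _ q) = 0 := hz
    rw [L2map_mkL2, mkL2_eq_zero_iff] at hz'
    exact (mkL2_eq_zero_iff _ q).2 (relModMap_mem_trivRel_iff P P' hz')
  · intro z
    obtain ⟨q, rfl⟩ := mkL2_surjective _ z
    obtain ⟨f, hf⟩ := (relModMap_bijective P P').2 (q : relMod P')
    have hm : f ∈ relKer (down P P') := by
      show jmap (down P P') f = 0
      apply (downHom_bijective_ringHom P P').1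
      rw [← PresHom.jmap_relModMap, hf, map_zero]
      exact q.2
    exact ⟨mkL2 _ ⟨f, hm⟩, (L2map_mkL2 (downHom P P') ⟨f, hm⟩).trans (congrArg (mkL2 P') (Subtype.ext hf))⟩

theorem down1_basis (s : σ') : down1 P P' (L1basis (down P P') s) = L1basis P' s := by
  show (downHom P P').L1map (L1basis (down P P') s) = L1basis P' s
  rw [L1basis_apply, L1basis_apply, PresHom.L1map_tmul, map_one, PresHom.relModMap_single, map_one, one_smul]
  rfl

theorem T2pull_down_bijective (M : Type m) [AddCommGroup M] [Module B M] :
    Function.Bijective ((downHom P P').T2pull M) := by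
  let e2 := LinearEquiv.ofBijective (down2 P P') (down2_bijective P P')
  constructor
  · rw [injective_iff_map_eq_zero]
    intro x
    induction x using Submodule.Quotient.induction_on with
    | H c =>
      intro h
      have h' : (Submodule.Quotient.mk ((downHom P P').pull2 M c) : T2 (down P P') M) = 0 := h
      obtain ⟨φ, hφ⟩ := (T2_mk_eq_zero (down P P') _).1 h'
      let φ' : L1 P' →ₗ[B] M := (L1basis P').constr B fun s => φ (L1basis (down P P') s)
      have he : φ' ∘ₗ down1 P P' = φ := (L1basis (down P P')).ext fun s => by
        rw [LinearMap.comp_apply, down1_basis]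
        exact Module.Basis.constr_basis _ _ _ _
      refine (T2_mk_eq_zero P' c).2 ⟨φ', LinearMap.ext fun z => ?_⟩
      obtain ⟨z', rfl⟩ := e2.surjective z
      have e3 : d2 P' (e2 z') = down1 P P' (d2 (down P P') z') := (downHom P P').d2_L2map z'
      have e4 : φ (d2 (down P P') z') = c (e2 z') := LinearMap.congr_fun hφ z'
      rw [LinearMap.comp_apply, e3, ← e4, ← he]
      rfl
  · intro x
    induction x using Submodule.Quotient.induction_on with
    | H c =>
      exact ⟨Submodule.Quotient.mk (c ∘ₗ e2.symm.toLinearMap),
        congrArg Submodule.Quotient.mk (LinearMap.ext fun z => congrArg c (e2.symm_apply_apply z))⟩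

end Groth.Agent.CotT
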