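import Groth.Prelude.Def_CotT2

/-! Elements of the three-term cotangent complex of a presentation. -/

open TensorProduct

noncomputable section

namespace Groth.Agent.CotT

open _root_.CotT

universe u v w t

variable {A : Type u} {B : Type v} {ι : Type w} {σ : Type t}
variable [CommRing A] [CommRing B] [Algebra A B] (P : Algebra.Presentation A B ι σ)

@[local instance] abbrev relKerGroup : AddCommGroup (relKer P) := (relKer P).addCommGroup

theorem algebraMap_surjective : Function.Surjective (algebraMap P.toExtension.Ring B) :=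
  P.toExtension.algebraMap_surjective

/-- The class of a relation in `L₂`. -/
def mkL2 : relKer P →ₗ[P.toExtension.Ring] L2 P where
  toFun q := Submodule.Quotient.mk ((1 : B) ⊗ₜ q)
  map_add' x y := by rw [tmul_add]; rfl
  map_smul' r q := by
    simp only [tmul_smul, RingHom.id_apply]
    rfl

theorem mkL2_apply (q : relKer P) : mkL2 P q = Submodule.Quotient.mk ((1 : B) ⊗ₜ q) := rfl

theorem mk_tmul (r : P.toExtension.Ring) (q : relKer P) :
    (Submodule.Quotient.mk (algebraMap P.toExtension.Ring B r ⊗ₜ q) : L2 P) = mkL2 P (r • q) := by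
  rw [mkL2_apply, Algebra.algebraMap_eq_smul_one, smul_tmul]

theorem mkL2_surjective : Function.Surjective (mkL2 P) := by
  intro z
  induction z using Submodule.Quotient.induction_on with
  | H z =>
    induction z using TensorProduct.induction_on with
    | zero => exact ⟨0, by simp⟩
    | add x y hx hy =>
      obtain ⟨a, ha⟩ := hx
      obtain ⟨b, hb⟩ := hy
      exact ⟨a + b, by rw [map_add, ha, hb]; rfl⟩
    | tmul b q =>
      obtain ⟨r, rfl⟩ := algebraMap_surjective P b
      exact ⟨r • q, (mk_tmul P r q).symm⟩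

theorem mkL2_smul (r : P.toExtension.Ring) (q : relKer P) :
    mkL2 P (r • q) = algebraMap P.toExtension.Ring B r • mkL2 P q := by
  rw [map_smul, algebraMap_smul]

theorem smul_mem_trivRel {r : P.toExtension.Ring} (hr : algebraMap P.toExtension.Ring B r = 0) {q : relMod P}
    (hq : q ∈ relKer P) : r • q ∈ trivRel P := by
  have : r ∈ LinearMap.range (jmap P) := by rw [range_jmap]; exact hr
  obtain ⟨a, rfl⟩ := this
  refine Submodule.subset_span ⟨a, q, ?_⟩
  rw [show jmap P q = 0 from hq, zero_smul, sub_zero]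

/-- `L₂` is `Q/F₀`. -/
theorem mkL2_eq_zero_iff (q : relKer P) : mkL2 P q = 0 ↔ (q : relMod P) ∈ trivRel P := by
  constructor
  · intro h
    let N := relKer P ⧸ trivRelKer P
    have hann : ∀ (r : P.toExtension.Ring), algebraMap P.toExtension.Ring B r = 0 → ∀ x : N, r • x = 0 := by
      intro r hr x
      induction x using Submodule.Quotient.induction_on with
      | H x =>
        rw [← Submodule.Quotient.mk_smul, Submodule.Quotient.mk_eq_zero]
        exact smul_mem_trivRel P hr x.2
    choose sec hsec using algebraMap_surjective P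
    have hcong : ∀ (r r' : P.toExtension.Ring), algebraMap P.toExtension.Ring B r = algebraMap P.toExtension.Ring B r' →
        ∀ x : N, r • x = r' • x := fun r r' e x =>
      sub_eq_zero.1 (by rw [← sub_smul]; exact hann _ (by rw [map_sub, e, sub_self]) x)
    let β : B →ₗ[P.toExtension.Ring] relKer P →ₗ[P.toExtension.Ring] N :=
      LinearMap.mk₂ P.toExtension.Ring (fun b x => sec b • (Submodule.Quotient.mk x : N))
        (fun b b' x => by rw [← add_smul]; exact hcong _ _ (by rw [map_add, hsec, hsec, hsec]) _)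
        (fun r b x => by rw [smul_smul]; exact hcong _ _ (by rw [map_mul, hsec, hsec, Algebra.smul_def]) _)
        (fun b x x' => by rw [Submodule.Quotient.mk_add, smul_add])
        (fun r b x => by rw [Submodule.Quotient.mk_smul, smul_comm])
    rw [mkL2_apply, Submodule.Quotient.mk_eq_zero] at h
    obtain ⟨z, hz⟩ := h
    have hzero : ∀ z, TensorProduct.lift β ((trivRelKer P).subtype.baseChange B z) = 0 := by
      intro z
      induction z using TensorProduct.induction_on with
      | zero => simp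
      | add x y hx hy => rw [map_add, map_add, hx, hy, add_zero]
      | tmul b x =>
        rw [LinearMap.baseChange_tmul, TensorProduct.lift.tmul]
        show sec b • (Submodule.Quotient.mk (x : relKer P) : N) = 0
        rw [(Submodule.Quotient.mk_eq_zero _).2 x.2, smul_zero]
    have h1 : TensorProduct.lift β ((1 : B) ⊗ₜ q) = 0 := hz ▸ hzero z
    rw [TensorProduct.lift.tmul] at h1
    have h2 : sec (1 : B) • (Submodule.Quotient.mk q : N) = (1 : P.toExtension.Ring) • Submodule.Quotient.mk q :=
      hcong _ _ (by rw [hsec, map_one]) _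
    have h3 : (Submodule.Quotient.mk q : N) = 0 := by
      rw [← one_smul P.toExtension.Ring (Submodule.Quotient.mk q : N), ← h2]; exact h1
    exact ((Submodule.Quotient.mk_eq_zero (trivRelKer P)).1 h3 : _)
  · intro h
    rw [mkL2_apply, Submodule.Quotient.mk_eq_zero]
    exact ⟨(1 : B) ⊗ₜ ⟨q, h⟩, rfl⟩

theorem d2_mkL2 (q : relKer P) : d2 P (mkL2 P q) = (1 : B) ⊗ₜ (q : relMod P) := by
  rw [mkL2_apply, d2_mk_tmul]

theorem one_tmul_surjective : ∀ x : L1 P, ∃ f : relMod P, (1 : B) ⊗ₜ[P.toExtension.Ring] f = x := by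
  intro x
  induction x using TensorProduct.induction_on with
  | zero => exact ⟨0, tmul_zero _ _⟩
  | add x y hx hy =>
    obtain ⟨a, rfl⟩ := hx
    obtain ⟨b, rfl⟩ := hy
    exact ⟨a + b, tmul_add _ _ _⟩
  | tmul b f =>
    obtain ⟨r, rfl⟩ := algebraMap_surjective P b
    exact ⟨r • f, by rw [tmul_smul, smul_tmul', ← Algebra.algebraMap_eq_smul_one]⟩

theorem one_tmul_smul_eq_zero {r : P.toExtension.Ring} (hr : algebraMap P.toExtension.Ring B r = 0) (f : relMod P) :
    (1 : B) ⊗ₜ[P.toExtension.Ring] (r • f) = 0 := by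
  rw [tmul_smul, smul_tmul', Algebra.smul_def, hr, zero_mul, zero_tmul]

theorem toCot_surjective : Function.Surjective (toCot P) := by
  intro x
  obtain ⟨⟨y, hy⟩, rfl⟩ := Algebra.Extension.Cotangent.mk_surjective x
  have : y ∈ LinearMap.range (jmap P) := by rw [range_jmap]; exact hy
  obtain ⟨f, hf⟩ := this
  refine ⟨(1 : B) ⊗ₜ f, ?_⟩
  rw [toCot_tmul, one_smul]
  congr 1
  exact Subtype.ext hf

/-- The kernel of `L₁ → I/I²` is the image of `L₂`. -/
theorem toCot_eq_zero {x : L1 P} (hx : toCot P x = 0) : x ∈ LinearMap.range (d2 P) := by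
  obtain ⟨f, rfl⟩ := one_tmul_surjective P x
  rw [toCot_tmul, one_smul] at hx
  have h1 : jmap P f ∈ P.toExtension.ker ^ 2 := by
    have h1 := congrArg Algebra.Extension.Cotangent.val hx
    rw [Algebra.Extension.Cotangent.val_mk, Algebra.Extension.Cotangent.val_zero, Ideal.toCotangent_eq_zero] at h1
    exact h1
  rw [pow_two] at h1
  have h2 : ∀ y ∈ P.toExtension.ker * P.toExtension.ker, ∃ g : relMod P, jmap P g = y ∧
      (1 : B) ⊗ₜ[P.toExtension.Ring] g = 0 := by
    intro y hy
    induction hy using Submodule.mul_induction_on' with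
    | mem_mul_mem a ha b hb =>
      have : b ∈ LinearMap.range (jmap P) := by rw [range_jmap]; exact hb
      obtain ⟨g, rfl⟩ := this
      exact ⟨a • g, by rw [map_smul, smul_eq_mul], one_tmul_smul_eq_zero P ha g⟩
    | add a _ b _ iha ihb =>
      obtain ⟨g, hg, hg'⟩ := iha
      obtain ⟨g', hg₂, hg₂'⟩ := ihb
      exact ⟨g + g', by rw [map_add, hg, hg₂], by rw [tmul_add, hg', hg₂', add_zero]⟩
  obtain ⟨g, hg, hg'⟩ := h2 _ h1
  refine ⟨mkL2 P ⟨f - g, ?_⟩, ?_⟩
  · show jmap P (f - g) = 0
    rw [map_sub, hg, sub_self]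
  · rw [d2_mkL2]
    show (1 : B) ⊗ₜ[P.toExtension.Ring] (f - g) = _
    rw [tmul_sub, hg', sub_zero]

theorem exists_factor_toCot {M : Type*} [AddCommGroup M] [Module B M] {c : L1 P →ₗ[B] M}
    (hc : c ∘ₗ d2 P = 0) : ∃ φ : P.toExtension.Cotangent →ₗ[B] M, φ ∘ₗ toCot P = c := by
  have hle : LinearMap.ker (toCot P) ≤ LinearMap.ker c := fun x hx => by
    obtain ⟨y, rfl⟩ := toCot_eq_zero P hx
    exact LinearMap.congr_fun hc y
  let e := LinearMap.quotKerEquivOfSurjective (toCot P) (toCot_surjective P)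
  refine ⟨((LinearMap.ker (toCot P)).liftQ c hle).comp e.symm.toLinearMap, LinearMap.ext fun x => ?_⟩
  have : e.symm (toCot P x) = Submodule.Quotient.mk x := by
    rw [LinearEquiv.symm_apply_eq]; rfl
  simp [this]

theorem T1_mk_eq_zero {M : Type*} [AddCommGroup M] [Module B M] (c : cocycles1 P M) :
    (Submodule.Quotient.mk c : T1 P M) = 0 ↔ ∃ ψ : L0 P →ₗ[B] M, ψ ∘ₗ d1 P = (c : L1 P →ₗ[B] M) := by
  rw [Submodule.Quotient.mk_eq_zero]
  rfl

theorem T2_mk_eq_zero {M : Type*} [AddCommGroup M] [Module B M] (c : L2 P →ₗ[B] M) :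
    (Submodule.Quotient.mk c : T2 P M) = 0 ↔ ∃ ψ : L1 P →ₗ[B] M, ψ ∘ₗ d2 P = c := by
  rw [Submodule.Quotient.mk_eq_zero]
  rfl

end Groth.Agent.CotT
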