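import Groth.Agent.CotT.Homotopy

/-! `T⁰` is the module of derivations. -/

open TensorProduct

noncomputable section

namespace Groth.Agent.CotT

open _root_.CotT

universe u v w t m

variable {A : Type u} {B : Type v} {ι : Type w} {σ : Type t}
variable [CommRing A] [CommRing B] [Algebra A B] (P : Algebra.Presentation A B ι σ)

theorem derToT0_bijective (M : Type m) [AddCommGroup M] [Module B M] [Module A M] [IsScalarTower A B M] :
    Function.Bijective (derToT0 P M) := by
  constructor
  · intro D D' h
    ext b
    obtain ⟨r, rfl⟩ := algebraMap_surjective P b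
    have h1 := LinearMap.congr_fun (congrArg Subtype.val h) ((1 : B) ⊗ₜ KaehlerDifferential.D A P.toExtension.Ring r)
    rw [derToT0_apply, derToT0_apply, derLift_tmul_D, derLift_tmul_D, one_smul, one_smul] at h1
    exact h1
  · intro x
    choose sec hsec using algebraMap_surjective P
    let φ : P.toExtension.Ring → M := fun r =>
      (x : L0 P →ₗ[B] M) ((1 : B) ⊗ₜ KaehlerDifferential.D A P.toExtension.Ring r)
    have hφadd : ∀ r r', φ (r + r') = φ r + φ r' := fun r r' => by
      show (x : L0 P →ₗ[B] M) _ = _
      rw [map_add, tmul_add, LinearMap.map_add]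
    have hφmul : ∀ r r', φ (r * r') =
        algebraMap P.toExtension.Ring B r • φ r' + algebraMap P.toExtension.Ring B r' • φ r := fun r r' => by
      show (x : L0 P →ₗ[B] M) _ = _
      rw [Derivation.leibniz, tmul_add, tmul_smul, tmul_smul, ← algebraMap_smul B r, ← algebraMap_smul B r',
        LinearMap.map_add, LinearMap.map_smul, LinearMap.map_smul]
    have hφC : ∀ a, φ (algebraMap A P.toExtension.Ring a) = 0 := fun a => by
      show (x : L0 P →ₗ[B] M) _ = _
      rw [Derivation.map_algebraMap, tmul_zero, LinearMap.map_zero]
    have hker : ∀ r, algebraMap P.toExtension.Ring B r = 0 → φ r = 0 := fun r hr => by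
      have hm : r ∈ LinearMap.range (jmap P) := by rw [range_jmap]; exact hr
      obtain ⟨f, rfl⟩ := hm
      have h1 := LinearMap.congr_fun x.2 ((1 : B) ⊗ₜ f)
      rw [d1Star_apply, LinearMap.comp_apply, d1_tmul, one_smul] at h1
      exact h1
    have hφ : ∀ r r', algebraMap P.toExtension.Ring B r = algebraMap P.toExtension.Ring B r' → φ r = φ r' :=
      fun r r' h => by
        have h1 := hφadd (r - r') r'
        rw [sub_add_cancel, hker (r - r') (by rw [map_sub, h, sub_self]), zero_add] at h1
        exact h1
    let Dl : B →ₗ[A] M :=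
      { toFun := fun b => φ (sec b)
        map_add' := fun b b' => (hφ _ _ (by rw [map_add, hsec, hsec, hsec])).trans (hφadd _ _)
        map_smul' := fun a b => by
          refine (hφ _ (algebraMap A P.toExtension.Ring a * sec b) (by
            rw [map_mul, hsec, hsec, ← IsScalarTower.algebraMap_apply, Algebra.smul_def])).trans ?_
          rw [hφmul, hφC, smul_zero, add_zero, RingHom.id_apply, ← IsScalarTower.algebraMap_apply, algebraMap_smul] }
    let D : Derivation A B M :=
      { toLinearMap := Dl
        map_one_eq_zero' := (hφ _ (algebraMap A P.toExtension.Ring 1) (by rw [hsec, map_one, map_one])).trans (hφC 1)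
        leibniz' := fun b b' => by
          show φ (sec (b * b')) = b • φ (sec b') + b' • φ (sec b)
          rw [hφ _ (sec b * sec b') (by rw [map_mul, hsec, hsec, hsec]), hφmul, hsec, hsec] }
    refine ⟨D, Subtype.ext (P.cotangentSpaceBasis.ext fun i => ?_)⟩
    rw [basis_eq, derToT0_apply, derLift_tmul_D, one_smul]
    exact hφ _ _ (hsec _)

end Groth.Agent.CotT
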