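import Groth.Agent.CotT.Exact
import Groth.Prelude.Def_Exal
import Mathlib.Algebra.TrivSqZeroExt.Ideal
import Mathlib.Tactic.LinearCombination

/-! Extensions by a module and `T¹`. -/

open TensorProduct

noncomputable section

namespace Groth.Agent.CotT

open _root_.CotT

universe u

variable {A B : Type u} [CommRing A] [CommRing B] [Algebra A B] {M : Type u} [AddCommGroup M] [Module B M]
variable {ι σ : Type u} (P : Algebra.Presentation A B ι σ)

local notation "π" => algebraMap P.toExtension.Ring B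

/-- The derivation part of a functional on `L₀`. -/
def dval (ψ : L0 P →ₗ[B] M) (r : P.toExtension.Ring) : M :=
  ψ ((1 : B) ⊗ₜ KaehlerDifferential.D A P.toExtension.Ring r)

theorem dval_X (ψ : L0 P →ₗ[B] M) (i : ι) : dval P ψ (var P i) = ψ (P.cotangentSpaceBasis i) := by
  rw [basis_eq]; rfl

theorem dval_C (ψ : L0 P →ₗ[B] M) (a : A) : dval P ψ (algebraMap A P.toExtension.Ring a) = 0 := by
  show ψ ((1 : B) ⊗ₜ KaehlerDifferential.D A P.toExtension.Ring (algebraMap A P.toExtension.Ring a)) = 0
  rw [Derivation.map_algebraMap, tmul_zero, LinearMap.map_zero]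

theorem dval_add (ψ : L0 P →ₗ[B] M) (r r' : P.toExtension.Ring) :
    dval P ψ (r + r') = dval P ψ r + dval P ψ r' := by
  simp only [dval, Derivation.map_add, tmul_add, LinearMap.map_add]

theorem dval_mul (ψ : L0 P →ₗ[B] M) (r r' : P.toExtension.Ring) :
    dval P ψ (r * r') = π r • dval P ψ r' + π r' • dval P ψ r := by
  simp only [dval, Derivation.leibniz, tmul_add, LinearMap.map_add]
  have h : ∀ (a : P.toExtension.Ring) (y : Ω[P.toExtension.Ring⁄A]),
      ((1 : B) ⊗ₜ[P.toExtension.Ring] (a • y)) = π a • ((1 : B) ⊗ₜ[P.toExtension.Ring] y) := fun a y => by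
    rw [tmul_smul, smul_tmul', smul_tmul', Algebra.smul_def, smul_eq_mul]
  rw [h, h, LinearMap.map_smul, LinearMap.map_smul]

/-- `φ` is the class of `X` read through some lifting. -/
def Reads (φ : P.toExtension.Cotangent →ₗ[B] M) (X : Exal.Ext A B M) : Prop :=
  ∃ g : P.toExtension.Ring →ₐ[A] X.E, (∀ r, X.proj (g r) = π r) ∧
    ∀ i : P.toExtension.ker, g (i : P.toExtension.Ring) = X.incl (φ (Algebra.Extension.Cotangent.mk i))

variable {P}

theorem lift_compare {X : Exal.Ext A B M} {g g' : P.toExtension.Ring →ₐ[A] X.E} (hg' : ∀ r, X.proj (g' r) = π r)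
    (ψ : L0 P →ₗ[B] M) (hX : ∀ i, g (var P i) = g' (var P i) + X.incl (ψ (P.cotangentSpaceBasis i)))
    (r : P.toExtension.Ring) : g r = g' r + X.incl (dval P ψ r) := by
  induction r using ring_induction with
  | hC a => rw [dval_C, map_zero, add_zero, g.commutes, g'.commutes]
  | hadd p q hp hq =>
    rw [dval_add, map_add, map_add, map_add, hp, hq]
    abel
  | hmul p i hp =>
    have hsq : X.incl (dval P ψ p) * X.incl (dval P ψ (var P i)) = 0 := by
      rw [X.isExtension.mul_incl, (X.isExtension.exact _).2 ⟨_, rfl⟩, zero_smul, map_zero]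
    have h1 : g' p * X.incl (dval P ψ (var P i)) = X.incl (π p • dval P ψ (var P i)) := by
      rw [X.isExtension.mul_incl, hg']
    have h2 : g' (var P i) * X.incl (dval P ψ p) = X.incl (π (var P i) • dval P ψ p) := by
      rw [X.isExtension.mul_incl, hg']
    rw [dval_mul, map_add, map_mul, map_mul, hp, hX, ← dval_X]
    linear_combination h1 + h2 + hsq

theorem eq_of_reads {X : Exal.Ext A B M} {φ φ' : P.toExtension.Cotangent →ₗ[B] M} (h : Reads P φ X)
    (h' : Reads P φ' X) : homToT1 P M φ = homToT1 P M φ' := by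
  obtain ⟨g, hg, hgi⟩ := h
  obtain ⟨g', hg', hgi'⟩ := h'
  have hz : ∀ i, X.proj (g (var P i) - g' (var P i)) = 0 := fun i => by
    rw [map_sub, hg, hg', sub_self]
  let ψ : L0 P →ₗ[B] M := P.cotangentSpaceBasis.constr B fun i => X.kerLift _ (hz i)
  have hc := lift_compare hg' ψ (g := g) fun i => by
    rw [Module.Basis.constr_basis, X.incl_kerLift]; ring
  rw [← sub_eq_zero, ← LinearMap.map_sub, homToT1_eq_zero]
  refine ⟨ψ, LinearMap.ext fun x => ?_⟩
  obtain ⟨i, rfl⟩ := Algebra.Extension.Cotangent.mk_surjective x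
  refine X.isExtension.incl_injective ?_
  show X.incl (ψ (P.toExtension.cotangentComplex _)) = X.incl (φ _ - φ' _)
  rw [map_sub, ← hgi, ← hgi', hc, add_sub_cancel_left, Algebra.Extension.cotangentComplex_mk]
  rfl

theorem reads_of_sub {X : Exal.Ext A B M} {φ φ' : P.toExtension.Cotangent →ₗ[B] M} (h : Reads P φ X)
    (ψ : L0 P →ₗ[B] M) (hψ : ψ ∘ₗ P.toExtension.cotangentComplex = φ' - φ) : Reads P φ' X := by
  obtain ⟨g, hg, hgi⟩ := h
  let g' : P.toExtension.Ring →ₐ[A] X.E :=
    MvPolynomial.aeval fun i => g (var P i) + X.incl (ψ (P.cotangentSpaceBasis i))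
  have hc := lift_compare hg ψ (g := g') fun i => MvPolynomial.aeval_X _ i
  refine ⟨g', fun r => ?_, fun i => ?_⟩
  · rw [hc, map_add, hg, (X.isExtension.exact _).2 ⟨_, rfl⟩, add_zero]
  · have h1 := LinearMap.congr_fun hψ (Algebra.Extension.Cotangent.mk i)
    rw [LinearMap.comp_apply, Algebra.Extension.cotangentComplex_mk, LinearMap.sub_apply] at h1
    rw [hc, hgi, ← map_add, show dval P ψ i = _ from h1, add_sub_cancel]

theorem exists_reads (X : Exal.Ext A B M) : ∃ φ, Reads P φ X := by
  choose v hv using fun i => X.isExtension.proj_surjective (P.val i)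
  let g : P.toExtension.Ring →ₐ[A] X.E := MvPolynomial.aeval v
  have hg : ∀ r, X.proj (g r) = π r := fun r => by
    rw [algebraMap_toExtension]
    exact DFunLike.congr_fun (MvPolynomial.algHom_ext (f := X.proj.comp g) (g := MvPolynomial.aeval P.val)
      fun i => by
        show X.proj (MvPolynomial.aeval v (MvPolynomial.X i)) = MvPolynomial.aeval P.val (MvPolynomial.X i)
        rw [MvPolynomial.aeval_X, MvPolynomial.aeval_X, hv]) r
  have hker : ∀ i : P.toExtension.Ring, π i = 0 → X.proj (g i) = 0 := fun i hi => by rw [hg, hi]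
  let c : L1 P →ₗ[B] M := (L1basis P).constr B fun s => X.kerLift (g (rel P s)) (hker _ (algebraMap_rel P s))
  have hone : ∀ f, X.incl (c ((1 : B) ⊗ₜ f)) = g (jmap P f) := fun f => by
    induction f using Finsupp.induction_linear with
    | zero => simp
    | add f f' hf hf' => rw [tmul_add, LinearMap.map_add, map_add, hf, hf', LinearMap.map_add, map_add]
    | single s r =>
      have e : ((1 : B) ⊗ₜ Finsupp.single s r : L1 P) = π r • L1basis P s := by
        rw [L1basis_apply, ← Finsupp.smul_single_one, tmul_smul, smul_tmul', smul_tmul', Algebra.smul_def, smul_eq_mul]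
      rw [e, LinearMap.map_smul, Module.Basis.constr_basis, ← hg, ← X.isExtension.mul_incl, X.incl_kerLift,
        jmap_single, map_mul]
  have hc : c ∘ₗ d2 P = 0 := LinearMap.ext fun z => by
    obtain ⟨q, rfl⟩ := mkL2_surjective P z
    refine X.isExtension.incl_injective ?_
    rw [LinearMap.comp_apply, d2_mkL2, hone, show jmap P (q : relMod P) = 0 from q.2]
    simp
  obtain ⟨φ, hφ⟩ := exists_factor_toCot P hc
  refine ⟨φ, g, hg, fun ⟨i, hi⟩ => ?_⟩
  have : i ∈ LinearMap.range (jmap P) := by rw [range_jmap]; exact hi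
  obtain ⟨f, rfl⟩ := this
  have h1 := LinearMap.congr_fun hφ ((1 : B) ⊗ₜ f)
  rw [LinearMap.comp_apply, toCot_tmul, one_smul] at h1
  rw [← hone, ← h1]
  rfl

theorem reads_of_equiv {X Y : Exal.Ext A B M} {φ : P.toExtension.Cotangent →ₗ[B] M} (e : X.Equiv Y)
    (h : Reads P φ X) : Reads P φ Y := by
  obtain ⟨g, hg, hgi⟩ := h
  exact ⟨e.toAlgEquiv.toAlgHom.comp g, fun r => (e.proj_apply _).trans (hg r),
    fun i => (congrArg e.toAlgEquiv (hgi i)).trans (e.apply_incl _)⟩

theorem equiv_of_hom {X Y : Exal.Ext A B M} (f : X.E →ₐ[A] Y.E) (hp : ∀ x, Y.proj (f x) = X.proj x)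
    (hi : ∀ z, f (X.incl z) = Y.incl z) : Nonempty (X.Equiv Y) := by
  have hinj : Function.Injective f := (injective_iff_map_eq_zero f).2 fun x hx => by
    obtain ⟨z, rfl⟩ := (X.isExtension.exact x).1 (by rw [← hp, hx, map_zero])
    rw [hi, ← map_zero Y.incl] at hx
    rw [Y.isExtension.incl_injective hx, map_zero]
  have hsurj : Function.Surjective f := fun y => by
    obtain ⟨x, hx⟩ := X.isExtension.proj_surjective (Y.proj y)
    obtain ⟨z, hz⟩ := (Y.isExtension.exact (y - f x)).1 (by rw [map_sub, hp, hx, sub_self])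
    exact ⟨x + X.incl z, by rw [map_add, hi, hz, add_sub_cancel]⟩
  exact ⟨⟨AlgEquiv.ofBijective f ⟨hinj, hsurj⟩, hp, hi⟩⟩

section Push

attribute [local instance] Exal.opModule Exal.isCentralScalar_opModule

variable [Module P.toExtension.Ring M] [IsScalarTower P.toExtension.Ring B M]
variable [Module A M] [IsScalarTower A P.toExtension.Ring M]
variable (φ : P.toExtension.Cotangent →ₗ[B] M)

/-- The ideal defining the push-out extension. -/
def pushIdeal : Ideal (TrivSqZeroExt P.toExtension.Ring M) where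
  carrier := {x | ∃ h : x.fst ∈ P.toExtension.ker, x.snd = -φ (Algebra.Extension.Cotangent.mk ⟨x.fst, h⟩)}
  zero_mem' := ⟨Submodule.zero_mem _, by
    rw [TrivSqZeroExt.snd_zero]
    have : (⟨(0 : TrivSqZeroExt P.toExtension.Ring M).fst, Submodule.zero_mem _⟩ : P.toExtension.ker) = 0 := rfl
    rw [this, LinearMap.map_zero, LinearMap.map_zero, neg_zero]⟩
  add_mem' := fun {x y} ⟨hx, ex⟩ ⟨hy, ey⟩ => ⟨Submodule.add_mem _ hx hy, by
    rw [TrivSqZeroExt.snd_add, ex, ey, ← neg_add, ← LinearMap.map_add, ← LinearMap.map_add]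
    rfl⟩
  smul_mem' := fun c x ⟨hx, ex⟩ => ⟨Ideal.mul_mem_left _ _ hx, by
    show (c * x).snd = -φ (Algebra.Extension.Cotangent.mk ⟨(c * x).fst, Ideal.mul_mem_left _ _ hx⟩)
    rw [TrivSqZeroExt.snd_mul, op_smul_eq_smul, ex]
    have h0 : (x.fst : P.toExtension.Ring) • c.snd = 0 := by
      rw [← algebraMap_smul B, show π x.fst = 0 from hx, zero_smul]
    have h1 : (⟨(c * x).fst, Ideal.mul_mem_left _ _ hx⟩ : P.toExtension.ker) = c.fst • ⟨x.fst, hx⟩ := rfl
    rw [h0, add_zero, h1, LinearMap.map_smul, ← algebraMap_smul B c.fst (Algebra.Extension.Cotangent.mk _),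
      LinearMap.map_smul, smul_neg, algebraMap_smul]⟩

theorem mem_pushIdeal {x : TrivSqZeroExt P.toExtension.Ring M} : x ∈ pushIdeal φ ↔
    ∃ h : x.fst ∈ P.toExtension.ker, x.snd = -φ (Algebra.Extension.Cotangent.mk ⟨x.fst, h⟩) := Iff.rfl

/-- The push-out of `R/I²` along `φ`. -/
def push : Exal.Ext A B M where
  E := TrivSqZeroExt P.toExtension.Ring M ⧸ pushIdeal φ
  proj := Ideal.Quotient.liftₐ _ ((IsScalarTower.toAlgHom A P.toExtension.Ring B).comp
    (TrivSqZeroExt.fstHom A P.toExtension.Ring M)) fun x hx => (((mem_pushIdeal φ).1 hx).1 : _)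
  incl := (Ideal.Quotient.mk (pushIdeal φ)).toAddMonoidHom.comp
    (TrivSqZeroExt.inrHom P.toExtension.Ring M).toAddMonoidHom
  isExtension :=
    { proj_surjective := fun b => by
        obtain ⟨r, rfl⟩ := algebraMap_surjective P b
        exact ⟨Ideal.Quotient.mk _ (TrivSqZeroExt.inl r), rfl⟩
      incl_injective := (injective_iff_map_eq_zero _).2 fun z hz => by
        obtain ⟨h, e⟩ := (mem_pushIdeal φ).1 (Ideal.Quotient.eq_zero_iff_mem.1 hz)
        change z = -φ (Algebra.Extension.Cotangent.mk (0 : P.toExtension.ker)) at e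
        rw [LinearMap.map_zero, LinearMap.map_zero, neg_zero] at e
        exact e
      exact := fun x => by
        obtain ⟨x, rfl⟩ := Ideal.Quotient.mk_surjective x
        constructor
        · intro hx
          refine ⟨x.snd + φ (Algebra.Extension.Cotangent.mk ⟨x.fst, hx⟩), Ideal.Quotient.eq.2 ?_⟩
          refine (Submodule.neg_mem_iff _).1 ((mem_pushIdeal φ).2 ⟨?_, ?_⟩)
          · show -(0 - x.fst) ∈ P.toExtension.ker
            rw [zero_sub, neg_neg]; exact hx
          · show -((x.snd + φ (Algebra.Extension.Cotangent.mk ⟨x.fst, hx⟩)) - x.snd) = _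
            rw [add_sub_cancel_left]
            congr 3
            exact Subtype.ext (by show x.fst = -(0 - x.fst); ring)
        · rintro ⟨z, hz⟩
          rw [← hz]
          exact map_zero π
      mul_incl := fun x z => by
        obtain ⟨x, rfl⟩ := Ideal.Quotient.mk_surjective x
        show Ideal.Quotient.mk _ x * Ideal.Quotient.mk _ (TrivSqZeroExt.inr z) =
          Ideal.Quotient.mk _ (TrivSqZeroExt.inr (π x.fst • z))
        rw [← map_mul]
        congr 1
        refine TrivSqZeroExt.ext (mul_zero _) ?_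
        simp [algebraMap_smul] }

theorem reads_push : Reads P φ (push φ) := by
  refine ⟨(Ideal.Quotient.mkₐ A _).comp (TrivSqZeroExt.inlAlgHom A P.toExtension.Ring M), fun r => rfl, fun i => ?_⟩
  refine Ideal.Quotient.eq.2 ((mem_pushIdeal φ).2 ⟨?_, ?_⟩)
  · show (i : P.toExtension.Ring) - 0 ∈ P.toExtension.ker
    rw [sub_zero]; exact i.2
  · show (0 : M) - φ _ = _
    rw [zero_sub]
    congr 3
    exact Subtype.ext (sub_zero _).symm

theorem equiv_push {X : Exal.Ext A B M} (h : Reads P φ X) : Nonempty ((push φ).Equiv X) := by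
  obtain ⟨g, hg, hgi⟩ := h
  let i' : M →ₗ[A] X.E :=
    { X.incl with
      map_smul' := fun a z => by
        show X.incl (a • z) = a • X.incl z
        rw [Algebra.smul_def, X.isExtension.mul_incl, AlgHom.commutes,
          IsScalarTower.algebraMap_apply A P.toExtension.Ring B, algebraMap_smul, algebraMap_smul] }
  let Φ : TrivSqZeroExt P.toExtension.Ring M →ₐ[A] X.E := TrivSqZeroExt.lift g i'
    (fun x y => by
      show X.incl x * X.incl y = 0
      rw [X.isExtension.mul_incl, (X.isExtension.exact _).2 ⟨_, rfl⟩, zero_smul, map_zero])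
    (fun r x => by
      show X.incl (r • x) = g r * X.incl x
      rw [X.isExtension.mul_incl, hg, algebraMap_smul])
    (fun r x => by
      show X.incl (MulOpposite.op r • x) = X.incl x * g r
      rw [op_smul_eq_smul, mul_comm, X.isExtension.mul_incl, hg, algebraMap_smul])
  have hΦ : ∀ x : TrivSqZeroExt P.toExtension.Ring M, Φ x = g x.fst + X.incl x.snd := fun x =>
    TrivSqZeroExt.lift_def g i' _ _ _ x
  refine equiv_of_hom (Ideal.Quotient.liftₐ _ Φ fun x hx => ?_) (fun x => ?_) fun z => ?_
  · obtain ⟨h, e⟩ := (mem_pushIdeal φ).1 hx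
    rw [hΦ, e, map_neg, hgi ⟨x.fst, h⟩, add_neg_cancel]
  · obtain ⟨x, rfl⟩ := Ideal.Quotient.mk_surjective x
    show X.proj (Φ x) = π x.fst
    rw [hΦ, map_add, hg, (X.isExtension.exact _).2 ⟨_, rfl⟩, add_zero]
  · show Φ (TrivSqZeroExt.inr z) = X.incl z
    rw [hΦ]
    simp

end Push

section Trivial

attribute [local instance] Exal.opModule Exal.isCentralScalar_opModule

theorem reads_trivial : Reads P (0 : P.toExtension.Cotangent →ₗ[B] M) (Exal.Ext.trivial A B M) := by
  refine ⟨AlgHom.mk ((TrivSqZeroExt.inlHom B M).comp π) fun a => ?_, fun r => rfl, fun i => ?_⟩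
  · show TrivSqZeroExt.inl (π (algebraMap A P.toExtension.Ring a)) = TrivSqZeroExt.inl (algebraMap A B a)
    rw [← IsScalarTower.algebraMap_apply A P.toExtension.Ring B]
  · rw [LinearMap.zero_apply, map_zero]
    show TrivSqZeroExt.inl (π i) = (0 : TrivSqZeroExt B M)
    rw [show π i = 0 from i.2, TrivSqZeroExt.inl_zero]

end Trivial

variable (P M) in
/-- `Exalcom ≃ T¹`. -/
theorem exists_equiv_T1 : ∃ e : Exal.Exalcom A B M ≃ T1 P M, e 0 = 0 := by
  let _ : Module P.toExtension.Ring M := Module.compHom M π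
  have : IsScalarTower P.toExtension.Ring B M := IsScalarTower.of_compHom _ B M
  let _ : Module A M := Module.compHom M (algebraMap A P.toExtension.Ring)
  have : IsScalarTower A P.toExtension.Ring M := IsScalarTower.of_compHom A _ M
  choose F hF using fun X : Exal.Ext A B M => exists_reads (P := P) X
  let e : Exal.Exalcom A B M → T1 P M := Quotient.lift (fun X => homToT1 P M (F X)) fun X Y ⟨h⟩ =>
    eq_of_reads (reads_of_equiv h (hF X)) (hF Y)
  refine ⟨Equiv.ofBijective e ⟨fun x y => ?_, fun t => ?_⟩, ?_⟩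
  · induction x using Quotient.inductionOn with
    | h X => induction y using Quotient.inductionOn with
      | h Y =>
        intro h
        obtain ⟨ψ, hψ⟩ := (homToT1_eq_zero P (F Y - F X)).1
          (by rw [LinearMap.map_sub, sub_eq_zero]; exact h.symm)
        obtain ⟨eX⟩ := equiv_push (F Y) (reads_of_sub (hF X) ψ hψ)
        obtain ⟨eY⟩ := equiv_push (F Y) (hF Y)
        exact Quotient.sound ⟨eX.symm.trans eY⟩
  · obtain ⟨φ, rfl⟩ := homToT1_surjective P M t
    exact ⟨(push φ).cl, eq_of_reads (hF _) (reads_push φ)⟩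
  · exact (eq_of_reads (hF (Exal.Ext.trivial A B M)) reads_trivial).trans (LinearMap.map_zero _)

end Groth.Agent.CotT
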