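import Groth.Agent.CotT.Basic
import Mathlib.Algebra.Algebra.Unitization

/-! Two morphisms of presentations over one square induce the same maps on `T⁰, T¹, T²`. -/

open TensorProduct

noncomputable section

namespace Groth.Agent.CotT

open _root_.CotT

universe u v w t u' v' w' t' m

attribute [local instance] relKerGroup

theorem one_tmul_single {A : Type u} {B : Type v} {ι : Type w} {σ : Type t} [CommRing A] [CommRing B]
    [Algebra A B] (P : Algebra.Presentation A B ι σ) (s : σ) (r : P.toExtension.Ring) :
    (1 : B) ⊗ₜ[P.toExtension.Ring] Finsupp.single s r = algebraMap P.toExtension.Ring B r • L1basis P s := by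
  rw [L1basis_apply, algebraMap_smul, ← tmul_smul, Finsupp.smul_single_one]

section RelQ

variable {A : Type u} {B : Type v} {ι : Type w} {σ : Type t}
variable [CommRing A] [CommRing B] [Algebra A B] (P : Algebra.Presentation A B ι σ)

/-- `F/F₀`. -/
def RelQ : Type (max t w u) := relMod P ⧸ trivRel P

instance : AddCommGroup (RelQ P) := inferInstanceAs (AddCommGroup (relMod P ⧸ trivRel P))

instance : Module P.toExtension.Ring (RelQ P) :=
  inferInstanceAs (Module P.toExtension.Ring (relMod P ⧸ trivRel P))

/-- The class in `F/F₀`. -/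
def cl : relMod P →ₗ[P.toExtension.Ring] RelQ P := (trivRel P).mkQ

theorem cl_surjective : Function.Surjective (cl P) := (trivRel P).mkQ_surjective

theorem cl_eq_zero {f : relMod P} : cl P f = 0 ↔ f ∈ trivRel P := Submodule.Quotient.mk_eq_zero _

theorem trivRel_le_ker : trivRel P ≤ LinearMap.ker (jmap P) := trivRel_le_relKer P

/-- `F/F₀ → R`. -/
def jbar : RelQ P →ₗ[P.toExtension.Ring] P.toExtension.Ring := (trivRel P).liftQ (jmap P) (trivRel_le_ker P)

@[simp] theorem jbar_cl (f : relMod P) : jbar P (cl P f) = jmap P f := rfl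

theorem jbar_smul_comm (x y : RelQ P) : jbar P x • y = jbar P y • x := by
  obtain ⟨a, rfl⟩ := cl_surjective P x
  obtain ⟨b, rfl⟩ := cl_surjective P y
  rw [jbar_cl, jbar_cl, ← map_smul, ← map_smul, ← sub_eq_zero, ← map_sub, cl_eq_zero]
  exact Submodule.subset_span ⟨a, b, rfl⟩

instance : NonUnitalCommRing (RelQ P) :=
  { (inferInstance : AddCommGroup (RelQ P)) with
    mul := fun x y => jbar P x • y
    left_distrib := fun x y z => smul_add _ _ _
    right_distrib := fun x y z => by
      show jbar P (x + y) • z = jbar P x • z + jbar P y • z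
      rw [map_add, add_smul]
    zero_mul := fun x => by
      show jbar P 0 • x = 0
      rw [map_zero, zero_smul]
    mul_zero := fun x => smul_zero _
    mul_assoc := fun x y z => by
      show jbar P (jbar P x • y) • z = jbar P x • jbar P y • z
      rw [map_smul, smul_eq_mul, mul_smul]
    mul_comm := jbar_smul_comm P }

theorem mul_def (x y : RelQ P) : x * y = jbar P x • y := rfl

instance : IsScalarTower P.toExtension.Ring (RelQ P) (RelQ P) :=
  ⟨fun r x y => by simp only [smul_eq_mul, mul_def, map_smul, mul_smul]⟩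

instance : SMulCommClass P.toExtension.Ring (RelQ P) (RelQ P) :=
  ⟨fun r x y => by simp only [smul_eq_mul, mul_def, smul_smul, mul_comm]⟩

/-- `(r, m) ↦ r + j m`. -/
def aug : Unitization P.toExtension.Ring (RelQ P) →+* P.toExtension.Ring where
  toFun z := z.fst + jbar P z.snd
  map_one' := by simp
  map_zero' := by simp
  map_add' x y := by simp only [Unitization.fst_add, Unitization.snd_add, map_add]; ring
  map_mul' x y := by
    simp only [Unitization.fst_mul, Unitization.snd_mul, mul_def, map_add, map_smul, smul_eq_mul]; ring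

theorem aug_apply (z : Unitization P.toExtension.Ring (RelQ P)) : aug P z = z.fst + jbar P z.snd := rfl

theorem trivRel_le_mk_ker :
    trivRel P ≤ LinearMap.ker (TensorProduct.mk P.toExtension.Ring B (relMod P) 1) := fun y hy =>
  one_tmul_eq_zero_of_mem_trivRel P y hy

/-- `F/F₀ → L₁`. -/
def one : RelQ P →ₗ[P.toExtension.Ring] L1 P :=
  (trivRel P).liftQ (TensorProduct.mk P.toExtension.Ring B (relMod P) 1) (trivRel_le_mk_ker P)

@[simp] theorem one_cl (f : relMod P) : one P (cl P f) = (1 : B) ⊗ₜ f := rfl

theorem one_smul_eq (r : P.toExtension.Ring) (x : RelQ P) :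
    one P (r • x) = algebraMap P.toExtension.Ring B r • one P x := by
  rw [map_smul, algebraMap_smul]

theorem one_mul_eq_zero (x y : RelQ P) : one P (x * y) = 0 := by
  obtain ⟨a, rfl⟩ := cl_surjective P x
  rw [mul_def, one_smul_eq, jbar_cl, algebraMap_jmap, zero_smul]

end RelQ

section Homotopy

variable {A : Type u} {B : Type v} {ι : Type w} {σ : Type t}
variable {A' : Type u'} {B' : Type v'} {ι' : Type w'} {σ' : Type t'}
variable [CommRing A] [CommRing B] [Algebra A B] [CommRing A'] [CommRing B'] [Algebra A' B']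
variable [Algebra A A'] [Algebra B B'] [Algebra A B'] [IsScalarTower A A' B'] [IsScalarTower A B B']
variable {P : Algebra.Presentation A B ι σ} {P' : Algebra.Presentation A' B' ι' σ'} (h h' : PresHom P P')

/-- The variable `x_i` of `P` in `R`. -/
abbrev var (P : Algebra.Presentation A B ι σ) (i : ι) : P.toExtension.Ring := MvPolynomial.X i

theorem ringHom_algebraMap (a : A) :
    h.ringHom (algebraMap A P.toExtension.Ring a) = algebraMap A' P'.toExtension.Ring (algebraMap A A' a) :=
  h.hom.toExtensionHom.toRingHom_algebraMap a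

theorem exists_var_diff (i : ι) : ∃ f : relMod P', jmap P' f = h.ringHom (var P i) - h'.ringHom (var P i) := by
  have hm : h.ringHom (var P i) - h'.ringHom (var P i) ∈ LinearMap.range (jmap P') := by
    rw [range_jmap]
    show algebraMap P'.toExtension.Ring B' _ = 0
    rw [map_sub, h.algebraMap_ringHom, h'.algebraMap_ringHom, sub_self]
  exact hm

/-- Chosen homotopy on variables. -/
def thetaVar (i : ι) : RelQ P' := cl P' (exists_var_diff h h' i).choose

/-- The ring map `a ↦ (ψ a, θ a)`. -/
def thetaHom : P.toExtension.Ring →+* Unitization P'.toExtension.Ring (RelQ P') :=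
  MvPolynomial.eval₂Hom
    ((Unitization.inlRingHom P'.toExtension.Ring (RelQ P')).comp (h'.ringHom.comp (algebraMap A P.toExtension.Ring)))
    (fun i => Unitization.inl (h'.ringHom (var P i)) + (thetaVar h h' i : Unitization P'.toExtension.Ring (RelQ P')))

/-- The homotopy `θ : R → F'/F₀'`. -/
def theta (a : P.toExtension.Ring) : RelQ P' := (thetaHom h h' a).snd

theorem thetaHom_algebraMap (a : A) :
    thetaHom h h' (algebraMap A P.toExtension.Ring a) = Unitization.inl (h'.ringHom (algebraMap A P.toExtension.Ring a)) :=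
  MvPolynomial.eval₂Hom_C _ _ _

theorem thetaHom_var (i : ι) :
    thetaHom h h' (var P i) = Unitization.inl (h'.ringHom (var P i)) +
      (thetaVar h h' i : Unitization P'.toExtension.Ring (RelQ P')) :=
  MvPolynomial.eval₂Hom_X' _ _ _

theorem ringHom_ext {S : Type*} [CommRing S] {f g : P.toExtension.Ring →+* S}
    (h₁ : ∀ a, f (algebraMap A P.toExtension.Ring a) = g (algebraMap A P.toExtension.Ring a))
    (h₂ : ∀ i, f (var P i) = g (var P i)) : f = g :=
  MvPolynomial.ringHom_ext h₁ h₂

theorem fst_thetaHom (a : P.toExtension.Ring) : (thetaHom h h' a).fst = h'.ringHom a := by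
  refine DFunLike.congr_fun (ringHom_ext
    (f := (Unitization.fstHom P'.toExtension.Ring (RelQ P')).toRingHom.comp (thetaHom h h')) (g := h'.ringHom)
    (fun a => ?_) (fun i => ?_)) a
  · show (thetaHom h h' _).fst = _
    rw [thetaHom_algebraMap, Unitization.fst_inl]
  · show (thetaHom h h' _).fst = _
    rw [thetaHom_var, Unitization.fst_add, Unitization.fst_inl, Unitization.fst_inr, add_zero]

theorem ringHom_eq_add (a : P.toExtension.Ring) : h.ringHom a = h'.ringHom a + jbar P' (theta h h' a) := by
  have := DFunLike.congr_fun (ringHom_ext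
    (f := (aug P').comp (thetaHom h h')) (g := h.ringHom) (fun a => ?_) (fun i => ?_)) a
  · rw [← this, RingHom.comp_apply, aug_apply, fst_thetaHom]; rfl
  · rw [RingHom.comp_apply, aug_apply, thetaHom_algebraMap, Unitization.fst_inl, Unitization.snd_inl, map_zero,
      add_zero, ringHom_algebraMap, ringHom_algebraMap]
  · rw [RingHom.comp_apply, aug_apply, thetaHom_var, Unitization.fst_add, Unitization.fst_inl, Unitization.fst_inr,
      Unitization.snd_add, Unitization.snd_inl, Unitization.snd_inr, add_zero, zero_add, thetaVar, jbar_cl,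
      (exists_var_diff h h' i).choose_spec]
    ring

theorem theta_add (a b : P.toExtension.Ring) : theta h h' (a + b) = theta h h' a + theta h h' b := by
  simp [theta]

theorem theta_zero : theta h h' 0 = 0 := by simp [theta]

theorem theta_mul (a b : P.toExtension.Ring) :
    theta h h' (a * b) = h'.ringHom a • theta h h' b + h'.ringHom b • theta h h' a + theta h h' a * theta h h' b := by
  simp [theta, Unitization.snd_mul, fst_thetaHom]

variable (M' : Type m) [AddCommGroup M'] [Module B' M'] [Module B M'] [IsScalarTower B B' M']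

theorem algebraMap_smul_M (b : B) (x : M') : algebraMap B B' b • x = b • x := IsScalarTower.algebraMap_smul B' b x

/-- The degree `-1` homotopy applied to a cochain. -/
def s0 (c : L1 P' →ₗ[B'] M') : L0 P →ₗ[B] M' :=
  P.cotangentSpaceBasis.constr B fun i => c (one P' (theta h h' (var P i)))

theorem ring_induction {motive : P.toExtension.Ring → Prop}
    (hC : ∀ a, motive (algebraMap A P.toExtension.Ring a)) (hadd : ∀ a b, motive a → motive b → motive (a + b))
    (hmul : ∀ a i, motive a → motive (a * var P i)) (a : P.toExtension.Ring) : motive a :=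
  MvPolynomial.induction_on (motive := motive) a hC hadd hmul

theorem basis_eq (i : ι) :
    P.cotangentSpaceBasis i = ((1 : B) ⊗ₜ KaehlerDifferential.D A P.toExtension.Ring (var P i) : L0 P) :=
  Algebra.Generators.cotangentSpaceBasis_apply _ _

theorem s0_var (c : L1 P' →ₗ[B'] M') (i : ι) :
    s0 h h' M' c ((1 : B) ⊗ₜ KaehlerDifferential.D A P.toExtension.Ring (var P i)) =
      c (one P' (theta h h' (var P i))) :=
  (congrArg (s0 h h' M' c) (basis_eq i).symm).trans (Module.Basis.constr_basis _ _ _ _)

theorem s0_mul (c : L1 P' →ₗ[B'] M') (a b : P.toExtension.Ring)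
    (ha : s0 h h' M' c ((1 : B) ⊗ₜ KaehlerDifferential.D A P.toExtension.Ring a) = c (one P' (theta h h' a)))
    (hb : s0 h h' M' c ((1 : B) ⊗ₜ KaehlerDifferential.D A P.toExtension.Ring b) = c (one P' (theta h h' b))) :
    s0 h h' M' c ((1 : B) ⊗ₜ KaehlerDifferential.D A P.toExtension.Ring (a * b)) =
      c (one P' (theta h h' (a * b))) := by
  have e1 : ((1 : B) ⊗ₜ KaehlerDifferential.D A P.toExtension.Ring (a * b) : L0 P) =
      algebraMap P.toExtension.Ring B a • ((1 : B) ⊗ₜ KaehlerDifferential.D A P.toExtension.Ring b : L0 P) +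
        algebraMap P.toExtension.Ring B b • ((1 : B) ⊗ₜ KaehlerDifferential.D A P.toExtension.Ring a : L0 P) := by
    rw [Derivation.leibniz, tmul_add, tmul_smul, tmul_smul, algebraMap_smul, algebraMap_smul]
  have e2 : one P' (theta h h' (a * b)) =
      algebraMap B B' (algebraMap P.toExtension.Ring B a) • one P' (theta h h' b) +
        algebraMap B B' (algebraMap P.toExtension.Ring B b) • one P' (theta h h' a) := by
    rw [theta_mul, map_add, map_add, one_mul_eq_zero, add_zero, one_smul_eq, one_smul_eq, h'.algebraMap_ringHom,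
      h'.algebraMap_ringHom]
  rw [e1, e2, map_add, map_add, map_smul, map_smul, map_smul, map_smul, ha, hb, algebraMap_smul_M M' (algebraMap P.toExtension.Ring B a), algebraMap_smul_M M' (algebraMap P.toExtension.Ring B b)]

theorem s0_D (c : L1 P' →ₗ[B'] M') (a : P.toExtension.Ring) :
    s0 h h' M' c ((1 : B) ⊗ₜ KaehlerDifferential.D A P.toExtension.Ring a) = c (one P' (theta h h' a)) := by
  revert a
  refine ring_induction (fun a => ?_) (fun a b ha hb => ?_) (fun a i ha => s0_mul h h' M' c a (var P i) ha (s0_var h h' M' c i))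
  · rw [Derivation.map_algebraMap, tmul_zero, LinearMap.map_zero, theta, thetaHom_algebraMap, Unitization.snd_inl,
      LinearMap.map_zero, LinearMap.map_zero]
  · rw [map_add, tmul_add, LinearMap.map_add, ha, hb, theta_add, LinearMap.map_add, LinearMap.map_add]

/-- Chosen lift of `θ` of a relation. -/
def relLift (s : σ) : relMod P' := (cl_surjective P' (theta h h' (rel P s))).choose

theorem cl_relLift (s : σ) : cl P' (relLift h h' s) = theta h h' (rel P s) :=
  (cl_surjective P' (theta h h' (rel P s))).choose_spec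

theorem relLift_mem (s : σ) : h.relVal s - h'.relVal s - relLift h h' s ∈ relKer P' := by
  show jmap P' _ = 0
  rw [map_sub, map_sub, h.jmap_relVal, h'.jmap_relVal, ← jbar_cl P' (relLift h h' s), cl_relLift]
  show h.ringHom (rel P s) - h'.ringHom (rel P s) - _ = 0
  rw [ringHom_eq_add h h' (rel P s)]
  ring

/-- The relation attached to a relation index. -/
def qRel (s : σ) : relKer P' := ⟨_, relLift_mem h h' s⟩

theorem T0pull_eq : h.T0pull M' = h'.T0pull M' := by
  refine LinearMap.ext fun ψ => Subtype.ext (P.cotangentSpaceBasis.ext fun i => ?_)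
  show (ψ : L0 P' →ₗ[B'] M') (h.L0map _) = (ψ : L0 P' →ₗ[B'] M') (h'.L0map _)
  have hL : ∀ g : PresHom P P', g.L0map (P.cotangentSpaceBasis i) =
      ((algebraMap B B' 1) ⊗ₜ KaehlerDifferential.D A' P'.toExtension.Ring (g.ringHom (var P i)) : L0 P') := fun g =>
    (congrArg g.L0map (basis_eq i)).trans (Algebra.Extension.CotangentSpace.map_tmul _ _ _)
  erw [hL, hL]
  rw [← sub_eq_zero, ← map_sub, ← tmul_sub, ← map_sub]
  obtain ⟨f, hf⟩ := exists_var_diff h h' i
  show (ψ : L0 P' →ₗ[B'] M') (algebraMap B B' 1 ⊗ₜ KaehlerDifferential.D A' P'.toExtension.Ring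
    (h.ringHom (var P i) - h'.ringHom (var P i))) = 0
  rw [← hf, map_one]
  have h1 := LinearMap.congr_fun (ψ.2 : d1Star P' M' (ψ : L0 P' →ₗ[B'] M') = 0) ((1 : B') ⊗ₜ f)
  rw [d1Star_apply, LinearMap.comp_apply, d1_tmul, one_smul] at h1
  exact h1

theorem cocycle_diff {c : L1 P' →ₗ[B'] M'} (hc : c ∘ₗ d2 P' = 0) :
    h.pull1 M' c - h'.pull1 M' c = s0 h h' M' c ∘ₗ d1 P := by
  refine (L1basis P).ext fun s => ?_
  rw [L1basis_apply, LinearMap.comp_apply, d1_tmul, one_smul, jmap_single, one_mul, s0_D,
    LinearMap.sub_apply, PresHom.pull1_apply, PresHom.pull1_apply, PresHom.L1map_tmul, PresHom.L1map_tmul,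
    PresHom.relModMap_single, PresHom.relModMap_single, map_one, map_one, map_one, one_smul, one_smul, ← map_sub,
    ← tmul_sub, ← cl_relLift h h' s, one_cl, ← sub_eq_zero, ← map_sub, ← tmul_sub]
  have h1 := LinearMap.congr_fun hc (mkL2 P' (qRel h h' s))
  rw [LinearMap.comp_apply, d2_mkL2] at h1
  exact h1

theorem T1pull_eq : h.T1pull M' = h'.T1pull M' := by
  refine LinearMap.ext fun x => ?_
  induction x using Submodule.Quotient.induction_on with
  | H c =>
    show (Submodule.Quotient.mk (h.cocycles1Pull M' c) : T1 P M') = Submodule.Quotient.mk (h'.cocycles1Pull M' c)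
    rw [← sub_eq_zero, ← Submodule.Quotient.mk_sub, T1_mk_eq_zero]
    exact ⟨_, (cocycle_diff h h' M' (c.2 : d2Star P' M' (c : L1 P' →ₗ[B'] M') = 0)).symm⟩

/-- `F → Q'`, `Σ r_s e_s ↦ Σ φ(r_s) q_s`. -/
def wRel (f : relMod P) : relKer P' :=
  Finsupp.linearCombination P'.toExtension.Ring (qRel h h') (Finsupp.mapRange h.ringHom (map_zero _) f)

theorem wRel_single (s : σ) (r : P.toExtension.Ring) :
    wRel h h' (Finsupp.single s r) = h.ringHom r • qRel h h' s := by
  simp [wRel]

theorem wRel_add (f g : relMod P) : wRel h h' (f + g) = wRel h h' f + wRel h h' g := by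
  rw [wRel, wRel, wRel, Finsupp.mapRange_add (map_add _), map_add]

theorem wRel_zero : wRel h h' 0 = 0 := by simp [wRel]

theorem qRel_coe (s : σ) : (qRel h h' s : relMod P') = h.relVal s - h'.relVal s - relLift h h' s := rfl

theorem cl_diff_single (s : σ) (r : P.toExtension.Ring) :
    cl P' (h.relModMap (Finsupp.single s r) - h'.relModMap (Finsupp.single s r) -
      (wRel h h' (Finsupp.single s r) : relMod P')) = theta h h' (jmap P (Finsupp.single s r)) := by
  rw [PresHom.relModMap_single, PresHom.relModMap_single, wRel_single, Submodule.coe_smul, qRel_coe, jmap_single]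
  have e : h.ringHom r • h.relVal s - h'.ringHom r • h'.relVal s -
      h.ringHom r • (h.relVal s - h'.relVal s - relLift h h' s) =
      h.ringHom r • relLift h h' s + (h.ringHom r - h'.ringHom r) • h'.relVal s := by
    rw [smul_sub, smul_sub, sub_smul]; abel
  rw [e, map_add, map_smul, map_smul, cl_relLift]
  have e' : (h.ringHom r - h'.ringHom r) • cl P' (h'.relVal s) = h'.ringHom (rel P s) • theta h h' r := by
    rw [ringHom_eq_add h h' r, add_sub_cancel_left, jbar_smul_comm P' (theta h h' r) (cl P' (h'.relVal s)), jbar_cl,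
      h'.jmap_relVal]
  rw [e', theta_mul, mul_def, ringHom_eq_add h h' r, add_smul]
  abel

theorem cl_diff (f : relMod P) :
    cl P' (h.relModMap f - h'.relModMap f - (wRel h h' f : relMod P')) = theta h h' (jmap P f) := by
  induction f using Finsupp.induction_linear with
  | zero => simp [wRel_zero, theta_zero]
  | add f g hf hg =>
    rw [LinearMap.map_add (jmap P), theta_add, ← hf, ← hg, ← LinearMap.map_add (cl P'),
      LinearMap.map_add h.relModMap, LinearMap.map_add h'.relModMap, wRel_add, Submodule.coe_add]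
    exact congrArg (cl P') (by abel)
  | single s r => exact cl_diff_single h h' s r

/-- The homotopy in degree `1`. -/
def s1 (c : L2 P' →ₗ[B'] M') : L1 P →ₗ[B] M' :=
  (L1basis P).constr B fun s => c (mkL2 P' (qRel h h' s))

theorem s1_single (c : L2 P' →ₗ[B'] M') (s : σ) (r : P.toExtension.Ring) :
    s1 h h' M' c ((1 : B) ⊗ₜ Finsupp.single s r) = c (mkL2 P' (wRel h h' (Finsupp.single s r))) := by
  rw [one_tmul_single P s r, LinearMap.map_smul, s1, Module.Basis.constr_basis, wRel_single, mkL2_smul,
    LinearMap.map_smul, h.algebraMap_ringHom, algebraMap_smul_M M' (algebraMap P.toExtension.Ring B r)]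

/-- Both sides as additive maps. -/
theorem s1_eq (c : L2 P' →ₗ[B'] M') (f : relMod P) :
    s1 h h' M' c ((1 : B) ⊗ₜ f) = c (mkL2 P' (wRel h h' f)) := by
  let l : relMod P →+ M' := (s1 h h' M' c).toAddMonoidHom.comp
    (TensorProduct.mk P.toExtension.Ring B (relMod P) 1).toAddMonoidHom
  let w : relMod P →+ relKer P' := AddMonoidHom.mk' (wRel h h') (wRel_add h h')
  let r : relMod P →+ M' := c.toAddMonoidHom.comp ((mkL2 P').toAddMonoidHom.comp w)
  exact DFunLike.congr_fun (Finsupp.addHom_ext (f := l) (g := r) fun s a => s1_single h h' M' c s a) f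

theorem L2map_mkL2 (g : PresHom P P') (q : relKer P) : g.L2map (mkL2 P q) = mkL2 P' (g.relKerMap q) := by
  rw [mkL2_apply, mkL2_apply, PresHom.L2map_mk_tmul, map_one]

theorem rel_diff (q : relKer P) :
    mkL2 P' (h.relKerMap q) = mkL2 P' (h'.relKerMap q) + mkL2 P' (wRel h h' q) := by
  rw [← sub_eq_zero, ← LinearMap.map_add, ← LinearMap.map_sub, mkL2_eq_zero_iff, ← cl_eq_zero]
  show cl P' (h.relModMap q - (h'.relModMap q + (wRel h h' q : relMod P'))) = 0
  rw [← sub_sub, cl_diff, show jmap P (q : relMod P) = 0 from q.2, theta_zero]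

theorem pull2_diff (c : L2 P' →ₗ[B'] M') (q : relKer P) :
    (s1 h h' M' c ∘ₗ d2 P) (mkL2 P q) = (h.pull2 M' c - h'.pull2 M' c) (mkL2 P q) := by
  have e : c (h.L2map (mkL2 P q)) = c (h'.L2map (mkL2 P q)) + c (mkL2 P' (wRel h h' q)) := by
    rw [L2map_mkL2, L2map_mkL2, rel_diff h h' q, LinearMap.map_add]
  have e2 : s1 h h' M' c (d2 P (mkL2 P q)) = c (mkL2 P' (wRel h h' q)) :=
    (congrArg (s1 h h' M' c) (d2_mkL2 P q)).trans (s1_eq h h' M' c _)
  show s1 h h' M' c (d2 P (mkL2 P q)) = c (h.L2map (mkL2 P q)) - c (h'.L2map (mkL2 P q))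
  rw [e2, e, add_sub_cancel_left]

theorem T2pull_eq : h.T2pull M' = h'.T2pull M' := by
  refine LinearMap.ext fun x => ?_
  induction x using Submodule.Quotient.induction_on with
  | H c =>
    show (Submodule.Quotient.mk (h.pull2 M' c) : T2 P M') = Submodule.Quotient.mk (h'.pull2 M' c)
    rw [← sub_eq_zero, ← Submodule.Quotient.mk_sub, T2_mk_eq_zero]
    refine ⟨s1 h h' M' c, LinearMap.ext fun z => ?_⟩
    have hw := s1_eq h h' M' c
    obtain ⟨q, rfl⟩ := mkL2_surjective P z
    exact pull2_diff h h' M' c q

end Homotopy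

end Groth.Agent.CotT
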