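import Groth.Agent.CotT.Regular
import Mathlib.RingTheory.Smooth.Basic
import Mathlib.RingTheory.Localization.AtPrime.Basic

/-! When is `L₂ → L₁` injective; formal smoothness and the vanishing of `T¹`, `T²`. -/

open TensorProduct

noncomputable section

namespace Groth.Agent.CotT

open _root_.CotT

universe u v w t m

attribute [local instance] relKerGroup

section Triv

variable {R : Type u} [CommRing R]

theorem trivOf_linearMap {κ κ' : Type*} {b : κ → R} {b' : κ' → R} (W : (κ →₀ R) →ₗ[R] (κ' →₀ R))
    (hW : ∀ a, Finsupp.linearCombination R b' (W a) = Finsupp.linearCombination R b a) {f : κ →₀ R}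
    (hf : f ∈ trivOf b) : W f ∈ trivOf b' := by
  have h : trivOf b ≤ (trivOf b').comap W := by
    refine Submodule.span_le.2 ?_
    rintro _ ⟨a, a', rfl⟩
    refine Submodule.subset_span ⟨W a, W a', ?_⟩
    rw [map_sub, map_smul, map_smul, hW, hW]
  exact h hf

theorem smul_mem_trivOf {κ : Type*} (b : κ → R) {c : R} (hc : c ∈ Ideal.span (Set.range b)) {f : κ →₀ R}
    (hf : Finsupp.linearCombination R b f = 0) : c • f ∈ trivOf b := by
  obtain ⟨a, rfl⟩ := (Finsupp.mem_span_range_iff_exists_finsupp).1 hc
  refine Submodule.subset_span ⟨a, f, ?_⟩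
  rw [hf, zero_smul, sub_zero]
  rfl

theorem mem_trivOf_of_wreg {σ : Type*} (rels : σ → R) {r : ℕ} (b : Fin r → R) (hb : IsWReg b)
    (hspan : Ideal.span (Set.range rels) = Ideal.span (Set.range b)) (f : σ →₀ R)
    (hf : Finsupp.linearCombination R rels f = 0) (hI : ∀ s, f s ∈ Ideal.span (Set.range b)) :
    f ∈ trivOf rels := by
  classical
  have hw : ∀ k, ∃ w : σ →₀ R, Finsupp.linearCombination R rels w = b k := fun k =>
    (Finsupp.mem_span_range_iff_exists_finsupp).1 (show b k ∈ Submodule.span R (Set.range rels) from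
      hspan.ge (Ideal.subset_span ⟨k, rfl⟩))
  have hm : ∀ s, ∃ m : Fin r →₀ R, Finsupp.linearCombination R b m = rels s := fun s =>
    (Finsupp.mem_span_range_iff_exists_finsupp).1 (show rels s ∈ Submodule.span R (Set.range b) from
      hspan.le (Ideal.subset_span ⟨s, rfl⟩))
  choose w hw using hw
  choose m hm using hm
  let W : (Fin r →₀ R) →ₗ[R] (σ →₀ R) := Finsupp.linearCombination R w
  have hW : ∀ a, Finsupp.linearCombination R rels (W a) = Finsupp.linearCombination R b a := fun a => by
    induction a using Finsupp.induction_linear with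
    | zero => simp
    | add a a' ha ha' => rw [map_add, map_add, map_add, ha, ha']
    | single k c => simp [W, hw]
  let z : σ → (σ →₀ R) := fun s => Finsupp.single s 1 - W (m s)
  have hz : ∀ s, Finsupp.linearCombination R rels (z s) = 0 := fun s => by
    simp [z, map_sub, hW, hm]
  let u : Fin r →₀ R := f.sum fun s c => c • m s
  have hdec : f = (f.sum fun s c => c • z s) + W u := by
    simp only [z, u, map_finsuppSum, map_smul, smul_sub, Finsupp.sum_sub, sub_add_cancel,
      Finsupp.smul_single_one, Finsupp.sum_single]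
  have h1 : (f.sum fun s c => c • z s) ∈ trivOf rels :=
    Submodule.sum_mem _ fun s _ => smul_mem_trivOf rels (hspan.ge (hI s)) (hz s)
  have hu : Finsupp.linearCombination R b u = 0 := by
    rw [← hW, show W u = f - (f.sum fun s c => c • z s) from eq_sub_of_add_eq' hdec.symm, map_sub, hf,
      map_finsuppSum]
    simp [hz, Finsupp.sum]
  rw [hdec]
  exact Submodule.add_mem _ h1 (trivOf_linearMap W hW (relations_trivial b hb u hu))

theorem exists_mul_mapRange {S : Type*} [CommRing S] [Algebra R S] (T : Submonoid R) [IsLocalization T S]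
    {σ : Type*} (a : σ →₀ S) :
    ∃ s ∈ T, ∃ a₀ : σ →₀ R, Finsupp.mapRange (algebraMap R S) (map_zero _) a₀ = algebraMap R S s • a := by
  induction a using Finsupp.induction_linear with
  | zero => exact ⟨1, T.one_mem, 0, by simp⟩
  | add a a' ha ha' =>
    obtain ⟨s, hs, a₀, h⟩ := ha
    obtain ⟨s', hs', a₀', h'⟩ := ha'
    refine ⟨s * s', T.mul_mem hs hs', s' • a₀ + s • a₀', ?_⟩
    ext i
    have e := DFunLike.congr_fun h i
    have e' := DFunLike.congr_fun h' i
    simp only [Finsupp.mapRange_apply, Finsupp.smul_apply, Finsupp.add_apply, smul_eq_mul, map_add, map_mul] at e e' ⊢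
    rw [e, e']; ring
  | single i x =>
    obtain ⟨⟨c, s⟩, h⟩ := IsLocalization.surj T x
    refine ⟨s, s.2, Finsupp.single i c, ?_⟩
    rw [Finsupp.mapRange_single, Finsupp.smul_single, smul_eq_mul, mul_comm, h]

theorem exists_smul_mem_trivOf {S : Type*} [CommRing S] [Algebra R S] (T : Submonoid R) [IsLocalization T S]
    {σ : Type*} (rels : σ → R) (f : σ →₀ R)
    (h : Finsupp.mapRange (algebraMap R S) (map_zero _) f ∈ trivOf (fun s => algebraMap R S (rels s))) :
    ∃ s ∈ T, s • f ∈ trivOf rels := by
  classical
  set φ := algebraMap R S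
  have hlc : ∀ a : σ →₀ R, Finsupp.linearCombination S (fun s => φ (rels s)) (Finsupp.mapRange φ (map_zero _) a) =
      φ (Finsupp.linearCombination R rels a) := fun a => by
    induction a using Finsupp.induction_linear with
    | zero => simp
    | add a a' ha ha' => rw [Finsupp.mapRange_add (map_add _), map_add, map_add, map_add, ha, ha']
    | single i c => simp
  have key : ∀ y ∈ trivOf (fun s => φ (rels s)),
      ∃ s ∈ T, ∃ z ∈ trivOf rels, Finsupp.mapRange φ (map_zero _) z = φ s • y := by
    intro y hy
    induction hy using Submodule.span_induction with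
    | mem y hy =>
      obtain ⟨a, a', rfl⟩ := hy
      obtain ⟨s, hs, a₀, ha⟩ := exists_mul_mapRange (S := S) T a
      obtain ⟨s', hs', a₀', ha'⟩ := exists_mul_mapRange (S := S) T a'
      have e := hlc a₀
      have e' := hlc a₀'
      rw [ha, map_smul, smul_eq_mul] at e
      rw [ha', map_smul, smul_eq_mul] at e'
      refine ⟨s * s', T.mul_mem hs hs', _, Submodule.subset_span ⟨a₀, a₀', rfl⟩, ?_⟩
      ext i
      have f1 := DFunLike.congr_fun ha i
      have f2 := DFunLike.congr_fun ha' i
      simp only [Finsupp.mapRange_apply, Finsupp.smul_apply, Finsupp.sub_apply, smul_eq_mul, map_sub,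
        map_mul] at f1 f2 ⊢
      rw [f1, f2, ← e, ← e']; ring
    | zero => exact ⟨1, T.one_mem, 0, Submodule.zero_mem _, by simp⟩
    | add x y _ _ hx hy =>
      obtain ⟨s, hs, z, hz, h⟩ := hx
      obtain ⟨s', hs', z', hz', h'⟩ := hy
      refine ⟨s * s', T.mul_mem hs hs', s' • z + s • z',
        Submodule.add_mem _ (Submodule.smul_mem _ _ hz) (Submodule.smul_mem _ _ hz'), ?_⟩
      ext i
      have e := DFunLike.congr_fun h i
      have e' := DFunLike.congr_fun h' i
      simp only [Finsupp.mapRange_apply, Finsupp.smul_apply, Finsupp.add_apply, smul_eq_mul, map_add, map_mul] at e e' ⊢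
      rw [e, e']; ring
    | smul r x _ hx =>
      obtain ⟨s, hs, z, hz, h⟩ := hx
      obtain ⟨⟨c, t⟩, ht⟩ := IsLocalization.surj T r
      refine ⟨s * t, T.mul_mem hs t.2, c • z, Submodule.smul_mem _ _ hz, ?_⟩
      ext i
      have e := DFunLike.congr_fun h i
      simp only [Finsupp.mapRange_apply, Finsupp.smul_apply, smul_eq_mul, map_mul] at e ⊢
      rw [e, ← ht]; ring
  obtain ⟨s, hs, z, hz, h⟩ := key _ h
  have hall : ∀ i, ∃ c : T, (c : R) * z i = c * (s * f i) := fun i => by
    refine (IsLocalization.eq_iff_exists T S).1 ?_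
    have e := DFunLike.congr_fun h i
    simpa [Finsupp.mapRange_apply, map_mul] using e
  choose c hc using hall
  let C : R := ∏ i ∈ z.support ∪ f.support, (c i : R)
  have hC : C ∈ T := T.prod_mem fun i _ => (c i).2
  have hC' : C • z = (C * s) • f := by
    ext i
    simp only [Finsupp.smul_apply, smul_eq_mul]
    by_cases hi : i ∈ z.support ∪ f.support
    · obtain ⟨d, hd⟩ : (c i : R) ∣ C := Finset.dvd_prod_of_mem _ hi
      rw [hd]; linear_combination d * hc i
    · rw [Finset.mem_union, not_or, Finsupp.notMem_support_iff, Finsupp.notMem_support_iff] at hi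
      rw [hi.1, hi.2, mul_zero, mul_zero]
  exact ⟨C * s, T.mul_mem hC hs, hC' ▸ Submodule.smul_mem _ _ hz⟩

/-- Relations with coefficients in the ideal are trivial, when the ideal is locally a regular sequence. -/
theorem mem_trivOf_of_local {σ : Type*} (rels : σ → R) (f : σ →₀ R)
    (hloc : ∀ (M : Ideal R) [M.IsMaximal], Ideal.span (Set.range rels) ≤ M →
      ∃ (r : ℕ) (b : Fin r → Localization.AtPrime M), IsWReg b ∧
        (Ideal.span (Set.range rels)).map (algebraMap R (Localization.AtPrime M)) = Ideal.span (Set.range b))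
    (hf : Finsupp.linearCombination R rels f = 0) (hI : ∀ s, f s ∈ Ideal.span (Set.range rels)) :
    f ∈ trivOf rels := by
  let J : Ideal R := (trivOf rels).comap (LinearMap.toSpanSingleton R (σ →₀ R) f)
  have hJ : ∀ r, r ∈ J ↔ r • f ∈ trivOf rels := fun r => Iff.rfl
  suffices h : J = ⊤ by simpa using (hJ 1).1 (h ▸ Submodule.mem_top)
  by_contra hne
  obtain ⟨M, hM, hle⟩ := Ideal.exists_le_maximal J hne
  have hIM : Ideal.span (Set.range rels) ≤ M := fun c hc => hle ((hJ c).2 (smul_mem_trivOf rels hc hf))
  obtain ⟨r, b, hb, hspan⟩ := hloc M hIM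
  set φ := algebraMap R (Localization.AtPrime M)
  have hspan' : Ideal.span (Set.range fun s => φ (rels s)) = Ideal.span (Set.range b) := by
    rw [← hspan, Ideal.map_span, ← Set.range_comp]; rfl
  have hlc : ∀ a : σ →₀ R, Finsupp.linearCombination (Localization.AtPrime M) (fun s => φ (rels s))
      (Finsupp.mapRange φ (map_zero _) a) = φ (Finsupp.linearCombination R rels a) := fun a => by
    induction a using Finsupp.induction_linear with
    | zero => simp
    | add a a' ha ha' => rw [Finsupp.mapRange_add (map_add _), map_add, map_add, map_add, ha, ha']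
    | single i c => simp
  have h1 := mem_trivOf_of_wreg (fun s => φ (rels s)) b hb hspan' (Finsupp.mapRange φ (map_zero _) f)
    (by rw [hlc, hf, map_zero]) (fun s => by
      rw [Finsupp.mapRange_apply, ← hspan]; exact Ideal.mem_map_of_mem _ (hI s))
  obtain ⟨s, hs, h2⟩ := exists_smul_mem_trivOf M.primeCompl rels f h1
  exact hs (hle ((hJ s).2 h2))

end Triv

section Smooth

variable {A : Type u} {B : Type v} {ι : Type w} {σ : Type t}
variable [CommRing A] [CommRing B] [Algebra A B] (P : Algebra.Presentation A B ι σ)

theorem one_tmul_eq_zero_imp {f : relMod P} (h : (1 : B) ⊗ₜ[P.toExtension.Ring] f = (0 : L1 P)) (s : σ) :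
    algebraMap P.toExtension.Ring B (f s) = 0 := by
  have := congrArg (fun x => (L1basis P).repr x s) h
  simpa [L1basis, Algebra.TensorProduct.basis_repr_tmul, Finsupp.basisSingleOne] using this

/-- `L₂ → L₁` is injective when the kernel is locally generated by regular sequences. -/
theorem d2_injective (hloc : ∀ (M : Ideal P.toExtension.Ring) [M.IsMaximal], P.toExtension.ker ≤ M →
      ∃ (r : ℕ) (b : Fin r → Localization.AtPrime M), IsWReg b ∧
        P.toExtension.ker.map (algebraMap P.toExtension.Ring (Localization.AtPrime M)) = Ideal.span (Set.range b)) :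
    Function.Injective (d2 P) := by
  have hspan : Ideal.span (Set.range (rel P)) = P.toExtension.ker := P.span_range_relation_eq_ker
  rw [injective_iff_map_eq_zero]
  intro z hz
  obtain ⟨q, rfl⟩ := mkL2_surjective P z
  rw [d2_mkL2] at hz
  refine (mkL2_eq_zero_iff P q).2 (mem_trivOf_of_local (rel P) (q : relMod P) ?_ q.2 fun s => ?_)
  · intro M _ hM
    rw [hspan] at hM ⊢
    exact hloc M hM
  · rw [hspan]
    exact one_tmul_eq_zero_imp P hz s

variable (M : Type m) [AddCommGroup M] [Module B M]

theorem T2_subsingleton_of_projective (hinj : Function.Injective (d2 P))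
    [Module.Projective B P.toExtension.Cotangent] : Subsingleton (T2 P M) := by
  obtain ⟨sec, hsec⟩ := Module.projective_lifting_property (toCot P) LinearMap.id (toCot_surjective P)
  refine subsingleton_of_forall_eq 0 fun x => ?_
  induction x using Submodule.Quotient.induction_on with
  | H c =>
    let e := LinearEquiv.ofInjective (d2 P) hinj
    have hmem : ∀ x, x - sec (toCot P x) ∈ LinearMap.range (d2 P) := fun x => toCot_eq_zero P (by
      rw [map_sub, show toCot P (sec (toCot P x)) = toCot P x from LinearMap.congr_fun hsec _, sub_self])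
    let ret : L1 P →ₗ[B] L2 P :=
      e.symm.toLinearMap ∘ₗ (LinearMap.id - sec ∘ₗ toCot P).codRestrict _ hmem
    refine (T2_mk_eq_zero P c).2 ⟨c ∘ₗ ret, LinearMap.ext fun z => congrArg c ?_⟩
    refine e.injective (Subtype.ext ?_)
    show ((e (e.symm ⟨_, hmem (d2 P z)⟩) : LinearMap.range (d2 P)) : L1 P) = d2 P z
    rw [e.apply_symm_apply]
    show d2 P z - sec (toCot P (d2 P z)) = d2 P z
    rw [d2_mem_ker, map_zero, sub_zero]

theorem T1_subsingleton_of_formallySmooth [Algebra.FormallySmooth A B] : Subsingleton (T1 P M) := by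
  have : Algebra.FormallySmooth A P.toExtension.Ring := inferInstanceAs (Algebra.FormallySmooth A (MvPolynomial ι A))
  obtain ⟨l, hl⟩ := (P.toExtension.formallySmooth_iff_split_injection).1 inferInstance
  refine subsingleton_of_forall_eq 0 fun x => ?_
  obtain ⟨φ, rfl⟩ := homToT1_surjective P M x
  exact (homToT1_eq_zero P φ).2 ⟨φ ∘ₗ l, by rw [LinearMap.comp_assoc, hl, LinearMap.comp_id]⟩

theorem formallySmooth_of_T1 (h : Subsingleton (T1 P P.toExtension.Cotangent)) : Algebra.FormallySmooth A B := by
  have : Algebra.FormallySmooth A P.toExtension.Ring := inferInstanceAs (Algebra.FormallySmooth A (MvPolynomial ι A))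
  exact (P.toExtension.formallySmooth_iff_split_injection).2
    ((homToT1_eq_zero P LinearMap.id).1 (Subsingleton.elim _ _))

theorem cotangent_projective [Algebra.FormallySmooth A B] : Module.Projective B P.toExtension.Cotangent := by
  have : Algebra.FormallySmooth A P.toExtension.Ring := inferInstanceAs (Algebra.FormallySmooth A (MvPolynomial ι A))
  obtain ⟨l, hl⟩ := (P.toExtension.formallySmooth_iff_split_injection).1 inferInstance
  have : Module.Projective B P.toExtension.CotangentSpace := Module.Projective.of_basis P.cotangentSpaceBasis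
  exact Module.Projective.of_split _ l hl

end Smooth

end Groth.Agent.CotT
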