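import Groth.Agent.CotT.Invariance

/-! The morphisms `P → Q.comp P → Q` attached to a tower `A → B → C` of presentations. -/

open TensorProduct

noncomputable section

namespace Groth.Agent.CotT

open _root_.CotT

universe u v v₂ w t w' t'

attribute [local instance] relKerGroup

variable {A : Type u} {B : Type v} {C : Type v₂} {ι : Type w} {σ : Type t} {ι' : Type w'} {σ' : Type t'}
variable [CommRing A] [CommRing B] [CommRing C] [Algebra A B] [Algebra B C] [Algebra A C] [IsScalarTower A B C]
variable (Q : Algebra.Presentation B C ι' σ') (P : Algebra.Presentation A B ι σ)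

/-- `P → Q.comp P`. -/
def inH : PresHom P (Q.comp P) where
  hom := Q.toGenerators.toComp P.toGenerators
  relVal s := Finsupp.single (Sum.inr s) 1
  jmap_relVal s := by
    rw [jmap_single, one_mul]
    show MvPolynomial.rename Sum.inr (P.relation s) = (Q.toGenerators.toComp P.toGenerators).toAlgHom (P.relation s)
    rw [Algebra.Generators.toComp_toAlgHom]

theorem ofComp_rel_inr (s : σ) :
    (Q.toGenerators.ofComp P.toGenerators).toAlgHom ((Q.comp P).relation (Sum.inr s)) = 0 := by
  show (Q.toGenerators.ofComp P.toGenerators).toAlgHom (MvPolynomial.rename Sum.inr (P.relation s)) = 0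
  rw [Algebra.Generators.toAlgHom_ofComp_rename]
  have h : algebraMap P.toGenerators.Ring B (P.relation s) = 0 := P.relation_mem_ker s
  rw [h, map_zero]

/-- `Q.comp P → Q`. -/
def outH : PresHom (Q.comp P) Q where
  hom := Q.toGenerators.ofComp P.toGenerators
  relVal := Sum.elim (fun s => Finsupp.single s 1) 0
  jmap_relVal
    | Sum.inl s => by
      rw [Sum.elim_inl, jmap_single, one_mul]
      exact (Q.comp_aeval_relation_inl P s).symm
    | Sum.inr s => by
      rw [Sum.elim_inr, Pi.zero_apply, map_zero]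
      exact (ofComp_rel_inr Q P s).symm

theorem outH_surjective : Function.Surjective (outH Q P).ringHom :=
  Algebra.Generators.toAlgHom_ofComp_surjective _ _

theorem outH_inH_ringHom (r : P.toExtension.Ring) :
    (outH Q P).ringHom ((inH Q P).ringHom r) =
      algebraMap B Q.toExtension.Ring (algebraMap P.toExtension.Ring B r) := by
  show (Q.toGenerators.ofComp P.toGenerators).toAlgHom ((Q.toGenerators.toComp P.toGenerators).toAlgHom r) = _
  rw [Algebra.Generators.toComp_toAlgHom]
  exact Algebra.Generators.toAlgHom_ofComp_rename _ _ _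

/-- The relations coming from `P`. -/
def inrMap : (σ →₀ (Q.comp P).toExtension.Ring) →ₗ[(Q.comp P).toExtension.Ring] relMod (Q.comp P) :=
  Finsupp.lmapDomain _ _ Sum.inr

theorem inrMap_single (s : σ) (r : (Q.comp P).toExtension.Ring) :
    inrMap Q P (Finsupp.single s r) = Finsupp.single (Sum.inr s) r := Finsupp.mapDomain_single

theorem rel_inr (s : σ) : rel (Q.comp P) (Sum.inr s) = (inH Q P).ringHom (rel P s) :=
  ((one_mul _).symm.trans (jmap_single (Q.comp P) (Sum.inr s) 1).symm).trans ((inH Q P).jmap_relVal s)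

theorem exists_inrMap_of_ker {x : (Q.comp P).toExtension.Ring} (hx : (outH Q P).ringHom x = 0) :
    ∃ a, jmap (Q.comp P) (inrMap Q P a) = x := by
  have h0 : x ∈ P.toGenerators.ker.map (Q.toGenerators.toComp P.toGenerators).toAlgHom := by
    rw [Algebra.Generators.map_toComp_ker]; exact hx
  rw [← P.span_range_relation_eq_ker, Ideal.map_span, ← Set.range_comp] at h0
  have h1 : x ∈ Submodule.span (Q.comp P).toExtension.Ring
      (Set.range fun s => rel (Q.comp P) (Sum.inr s)) := by
    have e : (fun s => rel (Q.comp P) (Sum.inr s)) =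
        ⇑(Q.toGenerators.toComp P.toGenerators).toAlgHom ∘ P.relation :=
      funext fun s => rel_inr Q P s
    rw [e]
    exact h0
  obtain ⟨a, rfl⟩ := (Finsupp.mem_span_range_iff_exists_finsupp).1 h1
  refine ⟨a, ?_⟩
  show jmap (Q.comp P) (Finsupp.mapDomain Sum.inr a) = _
  rw [jmap, Finsupp.linearCombination_mapDomain]
  rfl

theorem outH_inrMap (a : σ →₀ (Q.comp P).toExtension.Ring) : (outH Q P).relModMap (inrMap Q P a) = 0 := by
  induction a using Finsupp.induction_linear with
  | zero => simp
  | add a b ha hb => rw [map_add, map_add, ha, hb, add_zero]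
  | single s r =>
    rw [inrMap_single, PresHom.relModMap_single]
    show _ • (0 : relMod Q) = 0
    rw [smul_zero]

theorem outH_relModMap_surjective (y : relMod Q) : ∃ f, (outH Q P).relModMap f = y := by
  induction y using Finsupp.induction_linear with
  | zero => exact ⟨0, map_zero _⟩
  | add a b ha hb =>
    obtain ⟨a', rfl⟩ := ha
    obtain ⟨b', rfl⟩ := hb
    exact ⟨a' + b', map_add _ _ _⟩
  | single s r =>
    obtain ⟨r', rfl⟩ := outH_surjective Q P r
    refine ⟨Finsupp.single (Sum.inl s) r', ?_⟩
    rw [PresHom.relModMap_single]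
    show _ • Finsupp.single s (1 : Q.toExtension.Ring) = _
    rw [Finsupp.smul_single_one]

theorem outH_L2map_surjective : Function.Surjective (outH Q P).L2map := by
  intro z
  obtain ⟨q, rfl⟩ := mkL2_surjective Q z
  obtain ⟨f, hf⟩ := outH_relModMap_surjective Q P (q : relMod Q)
  have h1 : (outH Q P).ringHom (jmap (Q.comp P) f) = 0 := by
    rw [← PresHom.jmap_relModMap, hf]; exact q.2
  obtain ⟨a, ha⟩ := exists_inrMap_of_ker Q P h1
  have hmem : f - inrMap Q P a ∈ relKer (Q.comp P) := by
    show jmap (Q.comp P) (f - inrMap Q P a) = 0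
    rw [map_sub, ha, sub_self]
  refine ⟨mkL2 (Q.comp P) ⟨_, hmem⟩, ?_⟩
  rw [L2map_mkL2]
  refine congrArg (mkL2 Q) (Subtype.ext ?_)
  show (outH Q P).relModMap (f - inrMap Q P a) = (q : relMod Q)
  rw [map_sub, outH_inrMap, sub_zero, hf]

theorem exists_trivRel_lift {y : relMod Q} (hy : y ∈ trivRel Q) :
    ∃ t ∈ trivRel (Q.comp P), (outH Q P).relModMap t = y := by
  induction hy using Submodule.span_induction with
  | mem y hy =>
    obtain ⟨a, b, rfl⟩ := hy
    obtain ⟨a', rfl⟩ := outH_relModMap_surjective Q P a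
    obtain ⟨b', rfl⟩ := outH_relModMap_surjective Q P b
    refine ⟨jmap _ a' • b' - jmap _ b' • a', Submodule.subset_span ⟨a', b', rfl⟩, ?_⟩
    rw [map_sub, LinearMap.map_smulₛₗ, LinearMap.map_smulₛₗ, PresHom.jmap_relModMap, PresHom.jmap_relModMap]
  | zero => exact ⟨0, Submodule.zero_mem _, map_zero _⟩
  | add x y _ _ hx hy =>
    obtain ⟨s, hs, rfl⟩ := hx
    obtain ⟨s', hs', rfl⟩ := hy
    exact ⟨s + s', Submodule.add_mem _ hs hs', map_add _ _ _⟩
  | smul r x _ hx =>
    obtain ⟨s, hs, rfl⟩ := hx
    obtain ⟨r', rfl⟩ := outH_surjective Q P r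
    exact ⟨r' • s, Submodule.smul_mem _ _ hs, LinearMap.map_smulₛₗ _ _ _⟩

theorem ringHom_inl (f : relMod (Q.comp P)) (s : σ') :
    (outH Q P).relModMap f s = (outH Q P).ringHom (f (Sum.inl s)) := by
  classical
  induction f using Finsupp.induction_linear with
  | zero => rw [map_zero, Finsupp.zero_apply, Finsupp.zero_apply, map_zero]
  | add f g hf hg => rw [map_add, Finsupp.add_apply, Finsupp.add_apply, hf, hg, map_add]
  | single x r =>
    rw [PresHom.relModMap_single]
    cases x with
    | inl s' =>
      show (_ • Finsupp.single s' (1 : Q.toExtension.Ring)) s = _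
      rw [Finsupp.smul_single_one, Finsupp.single_apply, Finsupp.single_apply]
      simp only [Sum.inl.injEq]
      split_ifs
      · rfl
      · exact (map_zero (outH Q P).ringHom).symm
    | inr s' =>
      show (_ • (0 : relMod Q)) s = _
      rw [smul_zero, Finsupp.single_eq_of_ne (by simp), map_zero]
      rfl

theorem mem_inr_sup_trivRel {f : relMod (Q.comp P)} (hf : (outH Q P).relModMap f = 0) :
    f ∈ LinearMap.range (inrMap Q P) ⊔ trivRel (Q.comp P) := by
  classical
  rw [← f.sum_single]
  refine Submodule.sum_mem _ fun x _ => ?_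
  cases x with
  | inr s => exact Submodule.mem_sup_left ⟨Finsupp.single s _, inrMap_single Q P s _⟩
  | inl s =>
    have h0 : (outH Q P).ringHom (f (Sum.inl s)) = 0 := by rw [← ringHom_inl, hf]; rfl
    obtain ⟨a, ha⟩ := exists_inrMap_of_ker Q P h0
    set e : relMod (Q.comp P) := Finsupp.single (Sum.inl s) 1 with he
    have h2 : Finsupp.single (Sum.inl s) (f (Sum.inl s)) =
        inrMap Q P (jmap (Q.comp P) e • a) +
          (jmap (Q.comp P) (inrMap Q P a) • e - jmap (Q.comp P) e • inrMap Q P a) := by
      rw [map_smul, add_sub_cancel, ha, he, Finsupp.smul_single_one]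
    rw [h2]
    exact Submodule.add_mem_sup ⟨_, rfl⟩ (Submodule.subset_span ⟨_, _, rfl⟩)

/-- Coefficients with respect to the variables of `Q`. -/
def coeffQ : (Q.comp P).toExtension.Ring ≃ₐ[A] MvPolynomial ι' P.toExtension.Ring :=
  MvPolynomial.sumAlgEquiv A ι' ι

theorem coeffQ_inH (r : P.toExtension.Ring) : coeffQ Q P ((inH Q P).ringHom r) = MvPolynomial.C r := by
  show MvPolynomial.sumAlgEquiv A ι' ι ((Q.toGenerators.toComp P.toGenerators).toAlgHom r) = _
  rw [Algebra.Generators.toComp_toAlgHom]
  exact DFunLike.congr_fun (MvPolynomial.sumAlgEquiv_comp_rename_inr A ι' ι) r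

theorem inH_relModMap (g : relMod P) :
    (inH Q P).relModMap g = inrMap Q P (Finsupp.mapRange (inH Q P).ringHom (map_zero _) g) := by
  induction g using Finsupp.induction_linear with
  | zero => simp
  | add a b ha hb => rw [map_add, Finsupp.mapRange_add (map_add _), map_add, ha, hb]
  | single s r =>
    rw [PresHom.relModMap_single, Finsupp.mapRange_single, inrMap_single]
    show _ • Finsupp.single (Sum.inr s) (1 : (Q.comp P).toExtension.Ring) = _
    rw [Finsupp.smul_single_one]

theorem exists_decomp (u : σ →₀ (Q.comp P).toExtension.Ring) (hu : jmap (Q.comp P) (inrMap Q P u) = 0) :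
    ∃ (S : Finset (ι' →₀ ℕ)) (g : (ι' →₀ ℕ) → relKer P), inrMap Q P u =
      ∑ m ∈ S, (coeffQ Q P).symm (MvPolynomial.monomial m 1) • ((inH Q P).relModMap (g m : relMod P)) := by
  classical
  let cm : (ι' →₀ ℕ) → (σ →₀ P.toExtension.Ring) := fun m =>
    Finsupp.mapRange (fun x => MvPolynomial.coeff m (coeffQ Q P x)) (by simp) u
  have hmem : ∀ m, cm m ∈ relKer P := fun m => by
    show jmap P (cm m) = 0
    have h : ∀ v : σ →₀ (Q.comp P).toExtension.Ring,
        jmap P (Finsupp.mapRange (fun x => MvPolynomial.coeff m (coeffQ Q P x)) (by simp) v) =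
          MvPolynomial.coeff m (coeffQ Q P (jmap (Q.comp P) (inrMap Q P v))) := fun v => by
      induction v using Finsupp.induction_linear with
      | zero => simp
      | add a b ha hb =>
        rw [Finsupp.mapRange_add (fun x y => by simp), map_add, map_add, map_add, map_add, MvPolynomial.coeff_add,
          ha, hb]
      | single s r =>
        rw [Finsupp.mapRange_single, jmap_single, inrMap_single, jmap_single, map_mul,
          rel_inr,
          coeffQ_inH, mul_comm, mul_comm _ (MvPolynomial.C _), MvPolynomial.coeff_C_mul]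
    rw [h, hu, map_zero, MvPolynomial.coeff_zero]
  refine ⟨u.support.biUnion fun s => (coeffQ Q P (u s)).support, fun m => ⟨cm m, hmem m⟩, ?_⟩
  set S := u.support.biUnion fun s => (coeffQ Q P (u s)).support with hS
  have hkey : u = ∑ m ∈ S, (coeffQ Q P).symm (MvPolynomial.monomial m 1) •
      Finsupp.mapRange (inH Q P).ringHom (map_zero _) (cm m) := by
    ext s
    rw [Finsupp.coe_finsetSum, Finset.sum_apply]
    apply (coeffQ Q P).injective
    rw [map_sum]
    simp only [Finsupp.smul_apply, Finsupp.mapRange_apply, smul_eq_mul, map_mul, AlgEquiv.apply_symm_apply,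
      coeffQ_inH, cm]
    simp only [mul_comm _ (MvPolynomial.C _), MvPolynomial.C_mul_monomial, mul_one]
    conv_lhs => rw [← MvPolynomial.support_sum_monomial_coeff (coeffQ Q P (u s))]
    refine Finset.sum_subset (fun m hm => ?_) fun m _ hm => ?_
    · rw [hS, Finset.mem_biUnion]
      refine ⟨s, Finsupp.mem_support_iff.2 fun h => ?_, hm⟩
      rw [h, map_zero] at hm
      simp at hm
    · rw [MvPolynomial.notMem_support_iff.1 hm, map_zero]
  conv_lhs => rw [hkey]
  rw [map_sum]
  exact Finset.sum_congr rfl fun m _ => by rw [map_smul, inH_relModMap]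

/-- The kernel of `L₂(C/A) → L₂(C/B)` is spanned by the image of `L₂(B/A)`. -/
theorem ker_outH_L2map {z : L2 (Q.comp P)} (hz : (outH Q P).L2map z = 0) :
    z ∈ Submodule.span C (Set.range (inH Q P).L2map) := by
  obtain ⟨q, rfl⟩ := mkL2_surjective (Q.comp P) z
  rw [L2map_mkL2, mkL2_eq_zero_iff] at hz
  obtain ⟨t, ht, hteq⟩ := exists_trivRel_lift Q P (y := (outH Q P).relModMap (q : relMod (Q.comp P))) hz
  have h0 : (outH Q P).relModMap ((q : relMod (Q.comp P)) - t) = 0 := by rw [map_sub, hteq, sub_self]
  obtain ⟨_, ⟨u, rfl⟩, t', ht', hsum⟩ := Submodule.mem_sup.1 (mem_inr_sup_trivRel Q P h0)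
  have hdiff : (q : relMod (Q.comp P)) - inrMap Q P u = t + t' := by
    rw [eq_add_of_sub_eq' hsum.symm |>.trans (add_comm _ _)]
    abel
  have humem : inrMap Q P u ∈ relKer (Q.comp P) := by
    have e : inrMap Q P u = (q : relMod (Q.comp P)) - (t + t') := by rw [← hdiff]; abel
    rw [e]
    exact Submodule.sub_mem _ q.2 (trivRel_le_relKer _ (Submodule.add_mem _ ht ht'))
  have hcl : mkL2 (Q.comp P) q = mkL2 (Q.comp P) ⟨inrMap Q P u, humem⟩ := by
    rw [← sub_eq_zero, ← LinearMap.map_sub, mkL2_eq_zero_iff]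
    show (q : relMod (Q.comp P)) - inrMap Q P u ∈ trivRel (Q.comp P)
    rw [hdiff]
    exact Submodule.add_mem _ ht ht'
  obtain ⟨S, g, hg⟩ := exists_decomp Q P u humem
  have hu2 : (⟨inrMap Q P u, humem⟩ : relKer (Q.comp P)) =
      ∑ m ∈ S, (coeffQ Q P).symm (MvPolynomial.monomial m 1) • (inH Q P).relKerMap (g m) := by
    refine Subtype.ext (hg.trans ?_)
    rw [Submodule.coe_sum]
    rfl
  rw [hcl, hu2, map_sum]
  refine Submodule.sum_mem _ fun m _ => ?_
  rw [mkL2_smul, ← L2map_mkL2]
  exact Submodule.smul_mem _ _ (Submodule.subset_span ⟨_, rfl⟩)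

end Groth.Agent.CotT
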